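import Cfsg.Agent.Lib.SmallSylow.Main
import Cfsg.Agent.Lib.SLCard
import Cfsg.Agent.Lib.PSolvable
import Cfsg.Agent.Lib.Zassenhaus.Corollaries

/-!
# Applications of Brauer's theorem
-/

namespace CfsgLib.SmallSylow

open Cfsg CfsgLib.Blocks CfsgLib.CharTheory
open scoped commutatorElement

set_option linter.unusedVariables false
set_option linter.style.haveILetI false
set_option linter.unusedSectionVars false

universe u

variable {G : Type u} [Group G] [Fintype G] {p : ℕ} [Fact p.Prime]

theorem exists_count (P : Sylow p G) :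
    ∃ n, Nat.card (Sylow p G) = n * p + 1 ∧ (n = 0 → (P : Subgroup G).Normal) := by
  have hp := (Fact.out : p.Prime)
  have h := card_sylow_modEq_one p G
  have h1 : 1 ≤ Nat.card (Sylow p G) := Nat.card_pos
  obtain ⟨n, hn⟩ := (Nat.modEq_iff_dvd' h1).1 h.symm
  refine ⟨n, by rw [mul_comm] at hn; omega, fun h0 => ?_⟩
  haveI : Subsingleton (Sylow p G) := (Nat.card_eq_one_iff_unique.1 (by
    rw [h0, mul_zero] at hn; omega)).1
  exact P.normal_of_subsingleton

/-- In a perfect group a Sylow subgroup of prime order is not normal. -/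
theorem not_normal_of_perfect (hperf : commutator G = ⊤) (P : Sylow p G) (hP : Nat.card P = p) :
    ¬ (P : Subgroup G).Normal := by
  intro hN
  have h2 := two_le_inIdx hperf P hP
  haveI : IsCyclic (P : Subgroup G) :=
    isCyclic_of_prime_card (show Nat.card (P : Subgroup G) = p from hP)
  have hle : Subgroup.normalizer ((P : Subgroup G) : Set G) ≤
      Subgroup.centralizer ((P : Subgroup G) : Set G) := by
    intro g _
    haveI := hN
    let φ : G →* MulAut (P : Subgroup G) := MulAut.conjNormal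
    haveI := DefectOne.isCyclic_mulAut (DefectOne.setup_sylow P hP) hP
    letI := IsCyclic.commGroup (α := MulAut (P : Subgroup G))
    have hg : g ∈ φ.ker := Abelianization.commutator_subset_ker φ (hperf ▸ Subgroup.mem_top g)
    rw [Subgroup.mem_centralizer_iff]
    intro x hx
    have h := DFunLike.congr_fun (MonoidHom.mem_ker.1 hg) ⟨x, hx⟩
    have h' : g * x * g⁻¹ = x := congrArg Subtype.val h
    exact (mul_inv_eq_iff_eq_mul.1 h').symm
  have h1 : inIdx P = 1 := Subgroup.relIndex_eq_one.2 hle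
  omega

/-- A bound on the number of Sylow subgroups in a small group. -/
theorem count_le (hperf : commutator G = ⊤) (P : Sylow p G) (hP : Nat.card P = p) {n : ℕ}
    (hn : Nat.card (Sylow p G) = n * p + 1) (hbig : Nat.card G < p ^ 3) : 2 * n ≤ p + 1 := by
  have hp := (Fact.out : p.Prime)
  have h2 := two_le_inIdx hperf P hP
  have h1 := card_eq_mul P
  rw [hn] at h1
  have h3 : p ≤ Nat.card (Subgroup.centralizer ((P : Subgroup G) : Set G)) := by
    conv_lhs => rw [← hP]
    exact Nat.le_of_dvd Nat.card_pos (Subgroup.card_dvd_of_le (DefectOne.setup_sylow P hP).le_cent)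
  have h4 : p * 2 * (n * p + 1) ≤ Nat.card G := by
    rw [h1]; exact Nat.mul_le_mul_right _ (Nat.mul_le_mul h3 h2)
  by_contra hlt
  push Not at hlt
  have h5 : (p + 2) * (p * p) ≤ 2 * n * (p * p) := Nat.mul_le_mul_right _ hlt
  nlinarith

theorem sl_mulEquiv_psl {F : Type} [Field F] [Fintype F] {m : ℕ} (hF : Fintype.card F = 2 ^ m) :
    Nonempty (Matrix.SpecialLinearGroup (Fin 2) F ≃* Matrix.ProjectiveSpecialLinearGroup (Fin 2) F) := by
  have hm : m ≠ 0 := fun h => by
    have := Fintype.one_lt_card (α := F)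
    rw [hF, h] at this; simp at this
  have hZ : Subgroup.center (Matrix.SpecialLinearGroup (Fin 2) F) = ⊥ := by
    apply Subgroup.eq_bot_of_card_eq
    rw [SLCard.card_SL_center (by norm_num), hF]
    obtain ⟨j, rfl⟩ := Nat.exists_eq_succ_of_ne_zero hm
    have h1 : ¬ 2 ∣ 2 ^ (j + 1) - 1 := by
      have : 1 ≤ 2 ^ j := Nat.one_le_two_pow
      rw [pow_succ]
      omega
    exact ((Nat.prime_two.coprime_iff_not_dvd).2 h1)
  exact ⟨((QuotientGroup.quotientMulEquivOfEq hZ).trans QuotientGroup.quotientBot).symm⟩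

/-- The theorem on perfect groups of order less than `p³`. -/
theorem perfect_small (hperf : commutator G = ⊤) (hdvd : p ∣ Nat.card G) (hbig : Nat.card G < p ^ 3)
    (P : Sylow p G) (hP : ¬ (P : Subgroup G).Normal)
    (h2 : ∀ N : Subgroup G, N.Normal → Nat.card N ≠ 2) :
    3 < p ∧ (Nonempty (G ≃* Matrix.ProjectiveSpecialLinearGroup (Fin 2) (ZMod p)) ∨
      ∃ (m : ℕ) (F : Type) (_ : Field F) (_ : Fintype F), Fintype.card F = 2 ^ m ∧ p = 2 ^ m + 1 ∧
        Nonempty (G ≃* Matrix.SpecialLinearGroup (Fin 2) F)) := by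
  classical
  have hp := (Fact.out : p.Prime)
  obtain ⟨n, hn, hn0⟩ := exists_count P
  have hn1 : 1 ≤ n := Nat.one_le_iff_ne_zero.2 fun h => hP (hn0 h)
  have hPc : Nat.card P = p := by
    obtain ⟨k, hk⟩ := IsPGroup.iff_card.1 P.isPGroup'
    have h1 : Nat.card (P : Subgroup G) * Nat.card (Sylow p G) ≤ Nat.card G := by
      rw [← Subgroup.card_mul_index (Subgroup.normalizer ((P : Subgroup G) : Set G)),
        Sylow.card_eq_index_normalizer P]
      exact Nat.mul_le_mul_right _ (Nat.le_of_dvd Nat.card_pos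
        (Subgroup.card_dvd_of_le Subgroup.le_normalizer))
    have hk1 : 1 ≤ k := Nat.one_le_iff_ne_zero.2 fun h0 => P.not_dvd_index (by
      have h := (P : Subgroup G).card_mul_index
      rw [hk, h0, pow_zero, one_mul] at h
      rwa [h])
    rcases (by omega : k = 1 ∨ 2 ≤ k) with rfl | hk2
    · exact hk.trans (pow_one p)
    · exfalso
      rw [hk, hn] at h1
      have h3 : p ^ 2 * (1 * p + 1) ≤ p ^ k * (n * p + 1) :=
        Nat.mul_le_mul (Nat.pow_le_pow_right hp.pos hk2) (by
          have := Nat.mul_le_mul_right p hn1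
          omega)
      nlinarith
  set K := pPrimeCore p G
  haveI : Fintype (G ⧸ K) := Fintype.ofFinite _
  have hperf' := Zassenhaus.perfect_quotient K hperf
  have hKp : ¬ p ∣ Nat.card K := CfsgLib.not_dvd_card_pPrimeCore hp
  have hcardG : Nat.card G = Nat.card (G ⧸ K) * Nat.card K :=
    Subgroup.card_eq_card_quotient_mul_card_subgroup K
  have hbig' : Nat.card (G ⧸ K) < p ^ 3 :=
    lt_of_le_of_lt (Nat.le_of_dvd Nat.card_pos (hcardG ▸ dvd_mul_right _ _)) hbig
  let P' : Sylow p (G ⧸ K) := P.mapSurjective (QuotientGroup.mk'_surjective K)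
  have hP'c : Nat.card P' = p := by
    have h1 : p ∣ Nat.card (G ⧸ K) := by
      rw [hcardG] at hdvd
      exact (hp.dvd_mul.1 hdvd).resolve_right hKp
    have h3 : Nat.card (P' : Subgroup (G ⧸ K)) ∣ Nat.card (P : Subgroup G) := by
      show Nat.card ((P : Subgroup G).map (QuotientGroup.mk' K)) ∣ _
      exact Subgroup.card_map_dvd _ _
    rw [show Nat.card (P : Subgroup G) = p from hPc] at h3
    rcases (Nat.dvd_prime hp).1 h3 with h4 | h4
    · exfalso
      refine P'.not_dvd_index ?_
      have h5 := (P' : Subgroup (G ⧸ K)).card_mul_index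
      rw [h4, one_mul] at h5
      rwa [h5]
    · exact h4
  obtain ⟨n', hn', hn0'⟩ := exists_count P'
  have hn1' : 1 ≤ n' := Nat.one_le_iff_ne_zero.2 fun h => not_normal_of_perfect hperf' P' hP'c (hn0' h)
  have hcore : ∀ L : Subgroup (G ⧸ K), L.Normal → ¬ p ∣ Nat.card L → L = ⊥ := by
    intro L hL hLp
    haveI := hL
    rw [eq_bot_iff, ← pPrimeCore_quotient_eq_bot (G := G) p]
    exact CfsgLib.le_pPrimeCore (N := L) ((hp.coprime_iff_not_dvd.2 hLp).symm)
  obtain ⟨hp5, h⟩ := brauer_small_sylow_number hperf' P' hP'c hn' hn1'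
    (Arith.notForm_of_le (count_le hperf' P' hP'c hn' hbig')) hcore
  refine ⟨by omega, ?_⟩
  have hKbot : K = ⊥ := by
    refine Subgroup.eq_bot_of_card_eq _ ?_
    have hne := h2 K inferInstance
    have hKpos : 0 < Nat.card K := Nat.card_pos
    by_contra hne1
    have h3 : 3 ≤ Nat.card K := by omega
    rw [hcardG] at hbig
    have h4 := Nat.mul_le_mul_left (Nat.card (G ⧸ K)) h3
    rcases h with ⟨⟨e⟩⟩ | ⟨m, F, hF, hF', hcF, hpm, ⟨e⟩⟩
    · haveI : NeZero p := ⟨hp.ne_zero⟩
      have h5 := SLCard.gcd_mul_card_PSL (F := ZMod p) (n := 2) (by norm_num)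
      rw [SLCard.card_SL_two, ZMod.card, ← Nat.card_congr e.toEquiv] at h5
      have h6 : Nat.gcd 2 (p - 1) ≤ 2 := Nat.le_of_dvd two_pos (Nat.gcd_dvd_left _ _)
      have h7 := Nat.mul_le_mul_right (Nat.card (G ⧸ K)) h6
      rw [h5] at h7
      have h8 : p * (p ^ 2 - 1) * 3 ≤ 2 * (Nat.card (G ⧸ K) * 3) := by
        calc p * (p ^ 2 - 1) * 3 ≤ 2 * Nat.card (G ⧸ K) * 3 := Nat.mul_le_mul_right _ h7
          _ = _ := by ring
      have h9 : 4 ≤ p ^ 2 := by nlinarith
      obtain ⟨r, hr⟩ : ∃ r, p ^ 2 = r + 1 := ⟨p ^ 2 - 1, by omega⟩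
      rw [hr, Nat.add_sub_cancel] at h8
      have h10 : p ^ 3 = p * (r + 1) := by rw [← hr]; ring
      nlinarith
    · rw [Nat.card_congr e.toEquiv, SLCard.card_SL_two, hcF] at hbig h4
      set Q := 2 ^ m
      subst hpm
      have hQ : 4 ≤ Q := by omega
      obtain ⟨r, hr⟩ : ∃ r, Q ^ 2 = r + 1 := ⟨Q ^ 2 - 1, by
        have : 0 < Q ^ 2 := by positivity
        omega⟩
      rw [hr, Nat.add_sub_cancel] at hbig h4
      nlinarith [Nat.mul_le_mul hQ hQ]
  let e0 : G ≃* G ⧸ K := ((QuotientGroup.quotientMulEquivOfEq hKbot).trans QuotientGroup.quotientBot).symm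
  rcases h with ⟨⟨e⟩⟩ | ⟨m, F, hF, hF', hcF, hpm, ⟨e⟩⟩
  · exact Or.inl ⟨e0.trans e⟩
  · exact Or.inr ⟨m, F, hF, hF', hcF, hpm, ⟨e0.trans e⟩⟩

/-- The theorem on perfect groups with a self-centralizing element of prime order and few Sylow
subgroups. -/
theorem perfect_selfCentralizing (hperf : commutator G = ⊤) {z : G} (hz : orderOf z = p)
    (hC : Subgroup.centralizer ({z} : Set G) = Subgroup.zpowers z)
    (hn : 2 * Nat.card (Sylow p G) < (p + 1) * (p + 2)) :
    3 < p ∧ (Nonempty (G ≃* Matrix.ProjectiveSpecialLinearGroup (Fin 2) (ZMod p)) ∨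
      ∃ (m : ℕ) (F : Type) (_ : Field F) (_ : Fintype F), Fintype.card F = 2 ^ m ∧ p = 2 ^ m + 1 ∧
        Nonempty (G ≃* Matrix.SpecialLinearGroup (Fin 2) F)) := by
  classical
  have hp := (Fact.out : p.Prime)
  have hz1 : z ≠ 1 := fun h => hp.ne_one (by rw [← hz, h, orderOf_one])
  obtain ⟨P, hPle⟩ := (IsPGroup.of_card (p := p) (n := 1)
    (G := Subgroup.zpowers z) (by rw [Nat.card_zpowers, hz, pow_one])).exists_le_sylow
  have hzP : z ∈ (P : Subgroup G) := hPle (Subgroup.mem_zpowers z)
  have hPeq : (P : Subgroup G) = Subgroup.zpowers z := by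
    refine le_antisymm ?_ hPle
    haveI : Nontrivial (P : Subgroup G) := ⟨⟨⟨z, hzP⟩, 1, fun h => hz1 (congrArg Subtype.val h)⟩⟩
    haveI : Nontrivial (Subgroup.center (P : Subgroup G)) := P.isPGroup'.center_nontrivial
    obtain ⟨⟨c, hc⟩, hcne⟩ := exists_ne (1 : Subgroup.center (P : Subgroup G))
    have hcz : (c : G) ∈ Subgroup.zpowers z := by
      rw [← hC, Subgroup.mem_centralizer_singleton_iff]
      exact (congrArg Subtype.val (Subgroup.mem_center_iff.1 hc ⟨z, hzP⟩)).symm
    haveI : Fact (Nat.card (Subgroup.zpowers z)).Prime := ⟨by rw [Nat.card_zpowers, hz]; exact hp⟩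
    have hgen : Subgroup.zpowers (⟨(c : G), hcz⟩ : Subgroup.zpowers z) = ⊤ := by
      refine (Subgroup.eq_bot_or_eq_top_of_prime_card _).resolve_left fun h => ?_
      rw [Subgroup.zpowers_eq_bot] at h
      have h' : (c : G) = 1 := congrArg (fun w : Subgroup.zpowers z => (w : G)) h
      exact hcne (Subtype.ext (Subtype.ext h'))
    intro w hw
    rw [← hC, Subgroup.mem_centralizer_singleton_iff]
    obtain ⟨k, hk⟩ := Subgroup.mem_zpowers_iff.1
      (hgen.ge (Subgroup.mem_top (⟨z, Subgroup.mem_zpowers z⟩ : Subgroup.zpowers z)))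
    have hk' : (c : G) ^ k = z := congrArg Subtype.val hk
    have hwc : Commute w (c : G) := congrArg Subtype.val (Subgroup.mem_center_iff.1 hc ⟨w, hw⟩)
    rw [← hk']
    exact (hwc.zpow_right k).eq
  have hP : Nat.card P = p := by
    show Nat.card (P : Subgroup G) = p
    rw [hPeq, Nat.card_zpowers, hz]
  have hS := DefectOne.setup_sylow P hP
  have hcenP : Subgroup.centralizer ((P : Subgroup G) : Set G) = (P : Subgroup G) := by
    rw [← centralizer_eq P hP hzP hz1, hC, hPeq]
  obtain ⟨n, hnc, hn0⟩ := exists_count P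
  have hn1 : 1 ≤ n := Nat.one_le_iff_ne_zero.2 fun h => not_normal_of_perfect hperf P hP (hn0 h)
  rw [hnc] at hn
  have hn2 : 2 * n ≤ p + 1 := by
    by_contra hlt
    push Not at hlt
    obtain ⟨k, hk⟩ := hp.odd_of_ne_two (prime_ne_two hperf P hP)
    have hlt' : p + 3 ≤ 2 * n := by omega
    have := Nat.mul_le_mul_right p hlt'
    nlinarith
  have hcore : ∀ K : Subgroup G, K.Normal → ¬ p ∣ Nat.card K → K = ⊥ := by
    intro K hK hKp
    haveI := hK
    -- `P` acts on `K` without fixed points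
    have hfpf : ∀ k ∈ K, z * k * z⁻¹ = k → k = 1 := by
      intro k hk h
      have hk2 : k ∈ Subgroup.zpowers z := by
        rw [← hC, Subgroup.mem_centralizer_singleton_iff]
        exact (mul_inv_eq_iff_eq_mul.1 h).symm
      by_contra hk1
      rw [← hPeq] at hk2
      exact hKp ((orderOf_mem P hP hk2 hk1) ▸ Subgroup.orderOf_dvd_natCard K hk)
    -- `K` meets the normalizer trivially
    have hKN : ∀ k ∈ K, k ∈ nrm P → k = 1 := by
      intro k hk hkN
      have h1 : z * k * z⁻¹ * k⁻¹ ∈ K := mul_mem (hK.conj_mem k hk z) (inv_mem hk)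
      have h2 : z * k * z⁻¹ * k⁻¹ ∈ (P : Subgroup G) := by
        rw [show z * k * z⁻¹ * k⁻¹ = z * (k * z⁻¹ * k⁻¹) by group]
        exact mul_mem hzP ((Subgroup.mem_normalizer_iff.1 hkN _).1 (inv_mem hzP))
      have h3 : z * k * z⁻¹ * k⁻¹ = 1 := by
        by_contra h4
        exact hKp ((orderOf_mem P hP h2 h4) ▸ Subgroup.orderOf_dvd_natCard K h1)
      exact hfpf k hk (mul_inv_eq_one.1 h3)
    set M := K ⊔ nrm P with hM
    have hcardM : Nat.card M = Nat.card K * Nat.card (nrm P) := by
      rw [← Nat.card_prod]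
      refine (Nat.card_congr (Equiv.ofBijective
        (fun a : K × nrm P => (⟨(a.1 : G) * a.2, mul_mem (Subgroup.mem_sup_left a.1.2)
          (Subgroup.mem_sup_right a.2.2)⟩ : M)) ⟨?_, ?_⟩)).symm
      · intro a b h
        have e : (a.1 : G) * a.2 = b.1 * b.2 := congrArg Subtype.val h
        have e1 : (b.1 : G)⁻¹ * a.1 = b.2 * (a.2 : G)⁻¹ := by
          calc (b.1 : G)⁻¹ * a.1 = (b.1 : G)⁻¹ * (a.1 * a.2) * (a.2 : G)⁻¹ := by group
            _ = (b.1 : G)⁻¹ * (b.1 * b.2) * (a.2 : G)⁻¹ := by rw [e]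
            _ = _ := by group
        have e2 := hKN _ (mul_mem (inv_mem b.1.2) a.1.2) (e1 ▸ mul_mem b.2.2 (inv_mem a.2.2))
        have e3 : (a.1 : G) = b.1 := (inv_mul_eq_one.1 e2).symm
        rw [e3] at e
        exact Prod.ext (Subtype.ext e3) (Subtype.ext (mul_left_cancel e))
      · rintro ⟨g, hg⟩
        obtain ⟨k, hk, x, hx, rfl⟩ := Subgroup.mem_sup_of_normal_left.1 hg
        exact ⟨(⟨k, hk⟩, ⟨x, hx⟩), rfl⟩
    have hG : Nat.card G = Nat.card (nrm P) * (n * p + 1) := by
      rw [← hnc, Sylow.card_eq_index_normalizer P]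
      exact (Subgroup.card_mul_index _).symm
    obtain ⟨r, hr⟩ : ∃ r, n * p + 1 = Nat.card K * r := by
      have h1 := Subgroup.card_subgroup_dvd_card M
      rw [hcardM, hG, mul_comm (Nat.card (nrm P))] at h1
      exact Nat.dvd_of_mul_dvd_mul_right Nat.card_pos h1
    -- the fixed point free action gives `|K| ≡ 1`
    have hmod : Nat.card K ≡ 1 [MOD p] := by
      let φ : Subgroup.zpowers z →* MulAut K := MulAut.conjNormal.comp (Subgroup.zpowers z).subtype
      letI : MulAction (Subgroup.zpowers z) K := MulAction.compHom _ φ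
      have hPz : IsPGroup p (Subgroup.zpowers z) :=
        IsPGroup.of_card (n := 1) (by rw [Nat.card_zpowers, hz, pow_one])
      refine (hPz.card_modEq_card_fixedPoints K).trans ?_
      rw [show Nat.card (MulAction.fixedPoints (Subgroup.zpowers z) K) = 1 from ?_]
      refine Nat.card_eq_one_iff_unique.2 ⟨⟨fun a b => ?_⟩, ⟨⟨1, fun g => ?_⟩⟩⟩
      · have key : ∀ c : MulAction.fixedPoints (Subgroup.zpowers z) K, ((c : K) : G) = 1 := fun c =>
          hfpf _ (c : K).2 (congrArg Subtype.val (c.2 ⟨z, Subgroup.mem_zpowers z⟩))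
        exact Subtype.ext (Subtype.ext ((key a).trans (key b).symm))
      · exact map_one (φ g)
    by_contra hKne
    have hK2 : 1 < Nat.card K := K.one_lt_card_iff_ne_bot.2 hKne
    obtain ⟨j, hj⟩ := (Nat.modEq_iff_dvd' hK2.le).1 hmod.symm
    have hj1 : 1 ≤ j := Nat.one_le_iff_ne_zero.2 fun h => by rw [h, mul_zero] at hj; omega
    have hKge : p + 1 ≤ Nat.card K := by
      have := Nat.mul_le_mul_left p hj1
      omega
    have hrmod : r ≡ 1 [MOD p] := by
      have h1 : Nat.card K * r ≡ 1 * r [MOD p] := hmod.mul_right r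
      rw [← hr, one_mul] at h1
      refine h1.symm.trans ?_
      show (n * p + 1) % p = 1 % p
      rw [add_comm, Nat.add_mul_mod_self_right]
    rcases (by omega : r = 0 ∨ r = 1 ∨ 2 ≤ r) with rfl | rfl | hr2
    · rw [mul_zero] at hr; omega
    · -- `G = K N` is not perfect
      have hMtop : M = ⊤ := by
        refine Subgroup.eq_top_of_card_eq _ ?_
        rw [hcardM, hG, hr, mul_one, mul_comm]
      have hperf' := Zassenhaus.perfect_quotient K hperf
      obtain ⟨H, L⟩ := exists_local P hP hcenP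
      let π := QuotientGroup.mk' K
      have hsurj : ∀ q : G ⧸ K, ∃ x ∈ nrm P, π x = q := by
        intro q
        obtain ⟨g, rfl⟩ := QuotientGroup.mk'_surjective K q
        obtain ⟨k, hk, x, hx, rfl⟩ := Subgroup.mem_sup_of_normal_left.1
          (show g ∈ K ⊔ nrm P by rw [← hM, hMtop]; exact Subgroup.mem_top g)
        refine ⟨x, hx, ?_⟩
        rw [map_mul, show π k = 1 from (QuotientGroup.eq_one_iff k).2 hk, one_mul]
      have hle : commutator (G ⧸ K) ≤ (P : Subgroup G).map π := by
        rw [commutator_def, Subgroup.commutator_le]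
        intro a _ b _
        obtain ⟨x, hx, rfl⟩ := hsurj a
        obtain ⟨y, hy, rfl⟩ := hsurj b
        rw [← map_commutatorElement]
        refine Subgroup.mem_map_of_mem π ?_
        haveI : IsCyclic (P : Subgroup G) :=
          isCyclic_of_prime_card (show Nat.card (P : Subgroup G) = p from hP)
        haveI := DefectOne.isCyclic_mulAut hS hP
        letI := IsCyclic.commGroup (α := MulAut (P : Subgroup G))
        have h1 : (⁅(⟨x, hx⟩ : nrm P), ⟨y, hy⟩⁆ : nrm P) ∈ (P : Subgroup G).normalizerMonoidHom.ker := by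
          rw [MonoidHom.mem_ker, map_commutatorElement, commutatorElement_eq_one_iff_mul_comm, mul_comm]
        rw [Subgroup.normalizerMonoidHom_ker, Subgroup.mem_subgroupOf, hcenP] at h1
        exact h1
      rw [hperf'] at hle
      haveI hq : Subsingleton (G ⧸ K) := by
        haveI : IsMulCommutative (P : Subgroup G) := by
          haveI : IsCyclic (P : Subgroup G) :=
            isCyclic_of_prime_card (show Nat.card (P : Subgroup G) = p from hP)
          infer_instance
        haveI : Group.IsSolvable (G ⧸ K) := by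
          have hcomm : ∀ a b : G ⧸ K, a * b = b * a := fun a b => by
            obtain ⟨x, hx, rfl⟩ := hle (Subgroup.mem_top a)
            obtain ⟨y, hy, rfl⟩ := hle (Subgroup.mem_top b)
            rw [← map_mul, ← map_mul]
            exact congrArg π (congrArg Subtype.val
              (mul_comm' (⟨x, hx⟩ : (P : Subgroup G)) ⟨y, hy⟩))
          exact Group.isSolvable_of_comm hcomm
        exact Zassenhaus.perfect_solvable_subsingleton hperf'
      have hKtop : z ∈ K := by
        rw [← QuotientGroup.eq_one_iff]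
        exact Subsingleton.elim _ _
      exact hKp (hz ▸ Subgroup.orderOf_dvd_natCard K hKtop)
    · obtain ⟨i, hi⟩ := (Nat.modEq_iff_dvd' (by omega)).1 hrmod.symm
      have hi1 : 1 ≤ i := Nat.one_le_iff_ne_zero.2 fun h => by rw [h, mul_zero] at hi; omega
      have hrge : p + 1 ≤ r := by
        have := Nat.mul_le_mul_left p hi1
        omega
      have h1 := Nat.mul_le_mul hKge hrge
      rw [← hr] at h1
      have h2 := Nat.mul_le_mul_right p hn2
      nlinarith
  obtain ⟨hp5, h⟩ := brauer_small_sylow_number hperf P hP hnc hn1 (Arith.notForm_of_le hn2) hcore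
  exact ⟨by omega, h⟩

end CfsgLib.SmallSylow
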