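import Cfsg.Agent.S4441
import Cfsg.Agent.S0947
import Cfsg.Agent.Lib.Blocks.Orth
import Cfsg.Agent.Lib.Blocks.DefectZeroCount
import Cfsg.Agent.Lib.CharTheory.More

/-!
# Sylow subgroups of prime order: the principal block, numerical form
-/

namespace CfsgLib.SmallSylow

open Cfsg CfsgLib.Blocks CfsgLib.CharTheory CfsgLib.CharTheory.SmallDegree
open scoped ComplexConjugate

set_option linter.unusedVariables false
set_option linter.style.haveILetI false
set_option linter.unusedSectionVars false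

universe u

variable {G : Type u} [Group G] [Fintype G] {p : ℕ} [Fact p.Prime] {M : Ideal AlgInt}

/-- The inertial index. -/
noncomputable def inIdx (P : Sylow p G) : ℕ :=
  (Subgroup.centralizer ((P : Subgroup G) : Set G)).relIndex
    (Subgroup.normalizer ((P : Subgroup G) : Set G))

theorem card_eq_mul (P : Sylow p G) :
    Nat.card G = Nat.card (Subgroup.centralizer ((P : Subgroup G) : Set G)) * inIdx P *
      Nat.card (Sylow p G) := by
  rw [Sylow.card_eq_index_normalizer P, inIdx]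
  set C := Subgroup.centralizer ((P : Subgroup G) : Set G)
  set N := Subgroup.normalizer ((P : Subgroup G) : Set G)
  have hle : C ≤ N := Subgroup.centralizer_le_normalizer _
  show Nat.card G = Nat.card C * C.relIndex N * N.index
  rw [mul_assoc, Subgroup.relIndex_mul_index hle, Subgroup.card_mul_index]

theorem centralizer_eq (P : Sylow p G) (hP : Nat.card P = p) {x : G} (hx : x ∈ (P : Subgroup G))
    (hx1 : x ≠ 1) :
    Subgroup.centralizer ({x} : Set G) = Subgroup.centralizer ((P : Subgroup G) : Set G) :=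
  (DefectOne.setup_sylow P hP).star x hx hx1

theorem index_centralizer (P : Sylow p G) (hP : Nat.card P = p) {x : G}
    (hx : x ∈ (P : Subgroup G)) (hx1 : x ≠ 1) :
    (Subgroup.centralizer ({x} : Set G)).index = inIdx P * Nat.card (Sylow p G) := by
  rw [centralizer_eq P hP hx hx1]
  have h := Subgroup.card_mul_index (Subgroup.centralizer ((P : Subgroup G) : Set G))
  rw [card_eq_mul P, mul_assoc] at h
  exact Nat.eq_of_mul_eq_mul_left Nat.card_pos h

theorem orderOf_mem (P : Sylow p G) (hP : Nat.card P = p) {x : G} (hx : x ∈ (P : Subgroup G))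
    (hx1 : x ≠ 1) : orderOf x = p :=
  (DefectOne.zpowers_eq (DefectOne.setup_sylow P hP) hP hx hx1).2

theorem exists_mem_ne (P : Sylow p G) (hP : Nat.card P = p) :
    ∃ x ∈ (P : Subgroup G), x ≠ 1 := by
  have : (P : Subgroup G) ≠ ⊥ := fun h => by
    have h1 : Nat.card (P : Subgroup G) = 1 := by rw [h, Subgroup.card_bot]
    exact (Fact.out : p.Prime).ne_one (hP.symm.trans h1)
  obtain ⟨⟨x, hx⟩, hne⟩ := Subgroup.bot_or_exists_ne_one _ |>.resolve_left this |> fun ⟨x, hx, h⟩ =>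
    (⟨⟨x, hx⟩, fun e => h (congrArg Subtype.val e)⟩ : ∃ y : (P : Subgroup G), y ≠ 1)
  exact ⟨x, hx, fun h => hne (Subtype.ext h)⟩

theorem natDegree_dvd_of_isIntegral {a f : ℕ} (hf : f ≠ 0) (h : IsIntegral ℤ ((a : ℂ) / (f : ℂ))) :
    f ∣ a := by
  obtain ⟨m, hm⟩ := exists_int_of_isIntegral_ratCast (q := (a : ℚ) / f) (by push_cast; exact h)
  rw [div_eq_iff (Nat.cast_ne_zero.2 hf)] at hm
  have h1 : (a : ℤ) = m * f := by exact_mod_cast hm
  exact Int.natCast_dvd_natCast.1 ⟨m, by rw [h1, mul_comm]⟩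

/-- The numerical data of the principal block. -/
structure Data (P : Sylow p G) (M : Ideal AlgInt) (X Y : Finset (IrrCharacter G))
    (δ : IrrCharacter G → ℤ) (σ : ℤ) : Prop where
  union : ∀ χ, χ ∈ principalBlock M G ↔ χ ∈ X ∨ χ ∈ Y
  disj : Disjoint X Y
  cardX : X.card = inIdx P
  cardY : Y.card * inIdx P = p - 1
  hδ : ∀ χ ∈ X, δ χ = 1 ∨ δ χ = -1
  hσ : σ = 1 ∨ σ = -1
  degX : ∀ χ ∈ X, (charDegree (χ : G → ℂ) : ℤ) ≡ δ χ [ZMOD p]
  degY : ∀ η ∈ Y, (charDegree (η : G → ℂ) : ℤ) ≡ -σ * inIdx P [ZMOD p]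
  valX : ∀ χ ∈ X, ∀ x ∈ (P : Subgroup G), x ≠ 1 → (χ : G → ℂ) x = δ χ
  sumY : ∀ x ∈ (P : Subgroup G), x ≠ 1 → ∑ η ∈ Y, (η : G → ℂ) x = σ
  agree : ∀ η ∈ Y, ∀ η' ∈ Y, ∀ g : G, ¬ p ∣ orderOf g → (η : G → ℂ) g = (η' : G → ℂ) g
  relation : ∀ η ∈ Y, ∀ g : G, ¬ p ∣ orderOf g →
    ∑ χ ∈ X, (δ χ : ℂ) * (χ : G → ℂ) g + (σ : ℂ) * (η : G → ℂ) g = 0
  dvdX : ∀ χ ∈ X, charDegree (χ : G → ℂ) ∣ inIdx P * Nat.card (Sylow p G)
  dvdY : ∀ η ∈ Y, charDegree (η : G → ℂ) ∣ inIdx P * Nat.card (Sylow p G)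

theorem exists_data (hM : IsPModular p M) (hodd : p ≠ 2) (P : Sylow p G) (hP : Nat.card P = p) :
    ∃ X Y δ σ, Data P M X Y δ σ := by
  classical
  have hp : p.Prime := Fact.out
  obtain ⟨X, Y, hXY, hdisj, hcX, hcY, εX, ε, hX, hε, hYdeg, hagree, hrel⟩ :=
    Cfsg.Agent.S4441.result p M hM hodd P hP (inIdx P) rfl
  have hq0 : 0 < inIdx P := Nat.pos_of_ne_zero Subgroup.index_ne_zero_of_finite
  have hqdvd : inIdx P ∣ p - 1 := by
    have h := DefectOne.setup_sylow P hP
    haveI := DefectOne.isCyclic_mulAut h hP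
    have h1 : inIdx P ∣ Nat.card (MulAut (P : Subgroup G)) := by
      show ((Subgroup.centralizer ((P : Subgroup G) : Set G)).subgroupOf
        (Subgroup.normalizer ((P : Subgroup G) : Set G))).index ∣ _
      rw [← Subgroup.normalizerMonoidHom_ker, Subgroup.index_ker]
      exact Subgroup.card_subgroup_dvd_card _
    haveI : IsCyclic (P : Subgroup G) := isCyclic_of_prime_card (show Nat.card (P : Subgroup G) = p from hP)
    rwa [IsCyclic.card_mulAut, show Nat.card (P : Subgroup G) = p from hP, Nat.totient_prime hp] at h1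
  have hcXn : X.toFinset.card = inIdx P := by
    rw [← Nat.card_eq_card_toFinset]; exact hcX
  have hcYn : Y.toFinset.card * inIdx P = p - 1 := by
    rw [← Nat.card_eq_card_toFinset, hcY, Nat.div_mul_cancel hqdvd]
  have hregone : ¬ p ∣ orderOf (1 : G) := by rw [orderOf_one]; exact hp.not_dvd_one
  have hrelf : ∀ η ∈ Y, ∀ g : G, ¬ p ∣ orderOf g →
      (ε : ℂ) * (η : G → ℂ) g = ∑ χ ∈ X.toFinset, (εX χ : ℂ) * (χ : G → ℂ) g := by
    intro η hη g hg
    rw [hrel η hη g hg, finsum_mem_eq_toFinset_sum]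
  have hvalX : ∀ χ ∈ X.toFinset, ∀ x ∈ (P : Subgroup G), x ≠ 1 → (χ : G → ℂ) x = (εX χ : ℂ) := by
    intro χ hχ x hx hx1
    have := (hX χ (Set.mem_toFinset.1 hχ)).2.2 x hx hx1 1 (Subgroup.one_mem _) hregone
    rwa [mul_one] at this
  have hYne : Y.toFinset.Nonempty := by
    rw [← Finset.card_pos]
    rcases Nat.eq_zero_or_pos Y.toFinset.card with h | h
    · rw [h, zero_mul] at hcYn
      have := hp.two_le
      omega
    · exact h
  have hsum : ∀ x ∈ (P : Subgroup G), x ≠ 1 →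
      ∑ η ∈ Y.toFinset, (η : G → ℂ) x = ((-ε : ℤ) : ℂ) := by
    intro x hx hx1
    obtain ⟨η₀, hη₀⟩ := hYne
    have hη₀' := Set.mem_toFinset.1 hη₀
    have hpx : p ∣ orderOf x := by rw [orderOf_mem P hP hx hx1]
    have h0 := weak_orth hM (principalBlock_isPBlock (M := M) (G := G)) hregone hpx
    have hb : bset (principalBlock M G) = X.toFinset ∪ Y.toFinset := by
      ext χ
      rw [mem_bset, hXY]
      simp
    have e1 : ∑ χ ∈ X.toFinset, (χ : G → ℂ) 1 * (χ : G → ℂ) x =
        (ε : ℂ) * (η₀ : G → ℂ) 1 := by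
      rw [hrelf η₀ hη₀' 1 hregone]
      exact Finset.sum_congr rfl fun χ hχ => by rw [hvalX χ hχ x hx hx1, mul_comm]
    have e2 : ∑ η ∈ Y.toFinset, (η : G → ℂ) 1 * (η : G → ℂ) x =
        (η₀ : G → ℂ) 1 * ∑ η ∈ Y.toFinset, (η : G → ℂ) x := by
      rw [Finset.mul_sum]
      exact Finset.sum_congr rfl fun η hη => by
        rw [hagree η (Set.mem_toFinset.1 hη) η₀ hη₀' 1 hregone]
    rw [hb, Finset.sum_union (Set.disjoint_toFinset.2 hdisj), e1, e2] at h0
    have h1 : (η₀ : G → ℂ) 1 * ((ε : ℂ) + ∑ η ∈ Y.toFinset, (η : G → ℂ) x) = 0 := by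
      linear_combination h0
    rw [Int.cast_neg, eq_neg_iff_add_eq_zero, add_comm]
    exact (mul_eq_zero.1 h1).resolve_left (irr_one_ne_zero η₀)
  obtain ⟨x₀, hx₀, hx₀1⟩ := exists_mem_ne P hP
  refine ⟨X.toFinset, Y.toFinset, εX, -ε,
    { union := fun χ => by rw [hXY]; simp
      disj := Set.disjoint_toFinset.2 hdisj
      cardX := hcXn
      cardY := hcYn
      hδ := fun χ hχ => (hX χ (Set.mem_toFinset.1 hχ)).1
      hσ := by rcases hε with h | h <;> simp [h]
      degX := fun χ hχ => (hX χ (Set.mem_toFinset.1 hχ)).2.1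
      degY := fun η hη => by rw [neg_neg]; exact hYdeg η (Set.mem_toFinset.1 hη)
      valX := hvalX
      sumY := hsum
      agree := fun η hη η' hη' => hagree η (Set.mem_toFinset.1 hη) η' (Set.mem_toFinset.1 hη')
      relation := fun η hη g hg => by
        rw [← hrelf η (Set.mem_toFinset.1 hη) g hg]; push_cast; ring
      dvdX := fun χ hχ => ?_
      dvdY := fun η hη => ?_ }⟩
  · have hf0 : charDegree (χ : G → ℂ) ≠ 0 := fun h =>
      irr_one_ne_zero χ (by rw [← irr_charDegree_cast, h, Nat.cast_zero])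
    refine natDegree_dvd_of_isIntegral hf0 ?_
    have h1 := isIntegral_clv x₀ χ
    rw [clv, centralChar, index_centralizer P hP hx₀ hx₀1, hvalX χ hχ x₀ hx₀ hx₀1,
      ← irr_charDegree_cast] at h1
    rcases (hX χ (Set.mem_toFinset.1 hχ)).1 with h | h
    · rw [h, Int.cast_one, mul_one] at h1; exact h1
    · rw [h, Int.cast_neg, Int.cast_one, mul_neg, mul_one, neg_div] at h1
      simpa using h1.neg
  · have hf0 : charDegree (η : G → ℂ) ≠ 0 := fun h =>
      irr_one_ne_zero η (by rw [← irr_charDegree_cast, h, Nat.cast_zero])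
    refine natDegree_dvd_of_isIntegral hf0 ?_
    have h1 : IsIntegral ℤ (∑ η' ∈ Y.toFinset, clv x₀ η') :=
      IsIntegral.sum _ fun η' _ => isIntegral_clv x₀ η'
    have hdeg : ∀ η' ∈ Y.toFinset, (η' : G → ℂ) 1 = (charDegree (η : G → ℂ) : ℂ) := fun η' hη' => by
      rw [irr_charDegree_cast]
      exact hagree η' (Set.mem_toFinset.1 hη') η (Set.mem_toFinset.1 hη) 1 hregone
    rw [Finset.sum_congr rfl fun η' hη' => show clv x₀ η' =
        ((inIdx P * Nat.card (Sylow p G) : ℕ) : ℂ) / (charDegree (η : G → ℂ) : ℂ) *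
          (η' : G → ℂ) x₀ by
      rw [clv, centralChar, index_centralizer P hP hx₀ hx₀1, hdeg η' hη']; ring,
      ← Finset.mul_sum, hsum x₀ hx₀ hx₀1] at h1
    rcases hε with h | h
    · rw [h, Int.cast_neg, Int.cast_one, mul_neg, mul_one] at h1
      simpa using h1.neg
    · rw [h, neg_neg, Int.cast_one, mul_one] at h1; exact h1

/-- With self-centralizing Sylow subgroup the other blocks vanish on it and have degree divisible
by `p`. -/
theorem outside (hM : IsPModular p M) (P : Sylow p G) (hP : Nat.card P = p)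
    (hC : Subgroup.centralizer ((P : Subgroup G) : Set G) = (P : Subgroup G))
    {χ : IrrCharacter G} (hχ : χ ∉ principalBlock M G) :
    (∀ x ∈ (P : Subgroup G), x ≠ 1 → (χ : G → ℂ) x = 0) ∧ p ∣ charDegree (χ : G → ℂ) := by
  classical
  have hp : p.Prime := Fact.out
  have hzero : ∀ w ∈ (P : Subgroup G), w ≠ 1 → (χ : G → ℂ) w = 0 := by
    intro w hw hw1
    have hcard : Nat.card (Subgroup.centralizer ({w} : Set G)) = p := by
      rw [centralizer_eq P hP hw hw1, hC]; exact hP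
    have h1 := (Cfsg.Agent.S0947.result p M hM w ⟨1, by rw [orderOf_mem P hP hw hw1, pow_one]⟩ hw1 1
      (by rw [orderOf_one]; exact hp.not_dvd_one)).2
    have hidx : ∃ k : ℕ, (pPrimeCore p (Subgroup.centralizer ({w} : Set G))).index = p ^ k := by
      obtain ⟨k, -, hk⟩ := (Nat.dvd_prime_pow hp).1
        (show (pPrimeCore p (Subgroup.centralizer ({w} : Set G))).index ∣ p ^ 1 by
          rw [pow_one]
          conv_rhs => rw [← hcard]
          exact Subgroup.index_dvd_card _)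
      exact ⟨k, hk⟩
    have h2 := h1 hidx
    rw [hcard, hp.factorization_self, pow_one, Subgroup.coe_one, mul_one,
      finsum_mem_eq_toFinset_sum _ (principalBlock M G)] at h2
    have h3 := sum_irr_mul_conj w w
    rw [if_pos (IsConj.refl _), hcard] at h3
    simp only [Complex.mul_conj', ← Complex.ofReal_pow] at h3
    rw [← Complex.ofReal_sum, ← Complex.ofReal_natCast, Complex.ofReal_inj,
      ← Finset.sum_add_sum_compl (principalBlock M G).toFinset, h2, add_eq_left] at h3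
    have h4 := (Finset.sum_eq_zero_iff_of_nonneg fun ψ _ => sq_nonneg _).1 h3 χ (by simp [hχ])
    exact norm_eq_zero.1 (pow_eq_zero_iff two_ne_zero |>.1 h4)
  refine ⟨hzero, ?_⟩
  haveI : Fintype (P : Subgroup G) := Fintype.ofFinite _
  obtain ⟨m, hm⟩ := classInner_char_nat (isCharacter_restrict (isCharacter_of_irr χ.2) (P : Subgroup G))
    (isCharacter_one (G := (P : Subgroup G)))
  rw [classInner, Finset.sum_eq_single (1 : (P : Subgroup G)) (fun w _ hw => by
      rw [hzero w w.2 fun e => hw (Subtype.ext e), zero_mul])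
      (fun h0 => absurd (Finset.mem_univ _) h0), map_one, mul_one, Subgroup.coe_one,
    show Nat.card (P : Subgroup G) = p from hP,
    inv_mul_eq_iff_eq_mul₀ (Nat.cast_ne_zero.2 hp.ne_zero), ← Nat.cast_mul, ← irr_charDegree_cast,
    Nat.cast_inj] at hm
  exact ⟨m, hm⟩

end CfsgLib.SmallSylow
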