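import Mathlib

/-!
# Sylow subgroups of prime order: the arithmetic of the degrees
-/

namespace CfsgLib.SmallSylow.Arith

set_option maxHeartbeats 1000000

/-- `n` is not of Brauer's exceptional shape `F(h, u)`. -/
def NotForm (p n : ℕ) : Prop :=
  ∀ h u : ℕ, 0 < h → 0 < u → n * (u + 1) ≠ h * u * p + u ^ 2 + u + h

theorem notForm_of_le {p n : ℕ} (h : 2 * n ≤ p + 1) : NotForm p n := by
  intro h0 u hh hu heq
  have h1 : h0 * u * p + u ^ 2 + u + h0 ≥ u * p + u ^ 2 + u + 1 := by
    have : u * p ≤ h0 * u * p := Nat.mul_le_mul_right p (Nat.le_mul_of_pos_left u hh)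
    omega
  have h2 : 2 * n * (u + 1) ≤ (p + 1) * (u + 1) := Nat.mul_le_mul_right _ h
  have h3 : p ≤ u * p := Nat.le_mul_of_pos_left p hu
  nlinarith

/-- A divisor `D` of `n * p + 1` and a divisor `e` of `p - 1` with `D * e` congruent to `1` and
properly between `1` and `n * p + 1` exhibit the shape. -/
theorem false_of_dvd {p n D e : ℕ} (hp : 2 ≤ p) (hnF : NotForm p n) (hD : D ∣ n * p + 1)
    (he : e ∣ p - 1) (hmod : D * e ≡ 1 [MOD p]) (h1 : 1 < D * e) (h2 : D * e < n * p + 1) :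
    False := by
  obtain ⟨j, hj⟩ := (Nat.modEq_iff_dvd' h1.le).1 hmod.symm
  have hu : 0 < j := Nat.pos_of_ne_zero fun h0 => by rw [h0, mul_zero] at hj; omega
  have hDe : D * e = j * p + 1 := by rw [mul_comm j p]; omega
  obtain ⟨m, hm⟩ := hD
  obtain ⟨k, hk⟩ : e ∣ j + 1 := by
    have e1 : j * p + 1 = j * (p - 1) + (j + 1) := by
      obtain ⟨i, rfl⟩ : ∃ i, p = i + 1 := ⟨p - 1, by omega⟩
      rw [Nat.add_sub_cancel]; ring
    exact (Nat.dvd_add_right (he.trans (dvd_mul_left _ _))).1 (e1 ▸ hDe ▸ dvd_mul_left e D)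
  have hg : (j + 1) * (n * p + 1) = (j * p + 1) * (k * m) := by
    rw [hm, hk, ← hDe]; ring
  have hlt : j + 1 < k * m := by
    by_contra hle
    push Not at hle
    have h3 : (j * p + 1) * (k * m) ≤ (j * p + 1) * (j + 1) := Nat.mul_le_mul_left _ hle
    have h4 : (j + 1) * (j * p + 1) < (j + 1) * (n * p + 1) :=
      Nat.mul_lt_mul_of_pos_left (hDe ▸ h2) (by omega)
    rw [mul_comm (j * p + 1) (j + 1)] at h3
    omega
  set h0 : ℤ := ((j : ℤ) + 1) * n - j * (k * m : ℕ) with hh0
  have hg' : ((j : ℤ) + 1) * (n * p + 1) = (j * p + 1) * ((k * m : ℕ) : ℤ) := by exact_mod_cast hg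
  have e1 : ((k * m : ℕ) : ℤ) - (j + 1) = p * h0 := by rw [hh0]; linear_combination -hg'
  have hh : 1 ≤ h0 := by
    by_contra hle
    push Not at hle
    have h3 : (p : ℤ) * h0 ≤ 0 := mul_nonpos_of_nonneg_of_nonpos (by positivity) (by omega)
    have h4 : ((j + 1 : ℕ) : ℤ) < ((k * m : ℕ) : ℤ) := by exact_mod_cast hlt
    push_cast at h3 h4 e1
    linarith
  refine hnF h0.toNat j (by omega) hu ?_
  have hcast : (h0.toNat : ℤ) = h0 := Int.toNat_of_nonneg (by omega)
  have e2 : ((n * (j + 1) : ℕ) : ℤ) = ((h0.toNat * j * p + j ^ 2 + j + h0.toNat : ℕ) : ℤ) := by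
    push_cast
    rw [hcast]
    have e3 : ((k * m : ℕ) : ℤ) = j + 1 + p * h0 := by linarith
    rw [e3] at hh0
    linear_combination -hh0
  exact_mod_cast e2

theorem modEq_cancel {p f a b : ℕ} (hp : p.Prime) (hf : ¬ p ∣ f) (h : a * f ≡ b * f [MOD p]) :
    a ≡ b [MOD p] :=
  h.cancel_right_of_coprime (hp.coprime_iff_not_dvd.2 hf)

/-- Degrees congruent to `1`. -/
theorem plus_degree {p q n u : ℕ} (hp : p.Prime) (hq : q ∣ p - 1) (hnF : NotForm p n)
    (hu : 0 < u) (h : u * p + 1 ∣ q * (n * p + 1)) : u = n := by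
  have hp2 := hp.two_le
  have hup : p ≤ u * p := Nat.le_mul_of_pos_left p hu
  rcases lt_trichotomy u n with hlt | heq | hgt
  · exfalso
    obtain ⟨d, D, hd, hD, hdD⟩ := Nat.dvd_mul.1 h
    have hltp : u * p < n * p := Nat.mul_lt_mul_of_pos_right hlt hp.pos
    refine false_of_dvd hp2 hnF hD (hd.trans hq) ?_ ?_ ?_ <;> rw [mul_comm D d, hdD]
    · show (u * p + 1) % p = 1 % p
      rw [Nat.mul_add_mod_self_right]
    · omega
    · omega
  · exact heq
  · exfalso
    obtain ⟨g, hg⟩ := h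
    have hq0 : 0 < q := Nat.pos_of_ne_zero fun h0 => by subst h0; simp at hq; omega
    have hqp : q < p := by have := Nat.le_of_dvd (by omega) hq; omega
    have hgt' : n * p < u * p := Nat.mul_lt_mul_of_pos_right hgt hp.pos
    have hgq : g < q := by
      by_contra hle
      push Not at hle
      have h1 := Nat.mul_lt_mul_of_pos_left (show n * p + 1 < u * p + 1 by omega) hq0
      have h2 : (u * p + 1) * q ≤ (u * p + 1) * g := Nat.mul_le_mul_left _ hle
      rw [mul_comm (u * p + 1) q] at h2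
      omega
    have hmod : q ≡ g [MOD p] := by
      have h1 : q * (n * p + 1) % p = (u * p + 1) * g % p := by rw [hg]
      rw [show q * (n * p + 1) = q + p * (q * n) by ring,
        show (u * p + 1) * g = g + p * (u * g) by ring, Nat.add_mul_mod_self_left,
        Nat.add_mul_mod_self_left] at h1
      exact h1
    have := Nat.ModEq.eq_of_lt_of_lt hmod hqp (by omega)
    omega

/-- Degrees congruent to `-1`. -/
theorem minus_degree {p q n u : ℕ} (hp : p.Prime) (hq : q ∣ p - 1) (hq0 : 0 < q) (hnF : NotForm p n)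
    {f : ℕ} (hf : f + 1 = u * p) (h : f ∣ q * (n * p + 1)) :
    f + 1 = p ∨ (q + 1 = p ∧ f = q * (n * p + 1)) := by
  have hp2 := hp.two_le
  rcases (by omega : u = 0 ∨ u = 1 ∨ 2 ≤ u) with rfl | rfl | hu2
  · simp at hf
  · left; omega
  right
  obtain ⟨d, D, hd, hD, hdD⟩ := Nat.dvd_mul.1 h
  obtain ⟨e, he⟩ := hd.trans hq
  obtain ⟨m, hm⟩ := hD
  have hbig : p - 1 < f := by
    have : 2 * p ≤ u * p := Nat.mul_le_mul_right p hu2
    omega
  have hkey : m * e * f = (p - 1) * (n * p + 1) := by rw [he, hm, ← hdD]; ring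
  have hfp : ¬ p ∣ f := fun hd' => hp.ne_one (Nat.dvd_one.1
    ((Nat.dvd_add_right hd').1 (hf ▸ dvd_mul_left p u)))
  have hmod : m * e ≡ 1 [MOD p] := by
    refine modEq_cancel hp hfp ?_
    rw [hkey, one_mul]
    have h1 : f + 1 ≡ 0 [MOD p] := by rw [hf]; exact Nat.modEq_zero_iff_dvd.2 (dvd_mul_left p u)
    refine Nat.ModEq.add_right_cancel' 1 (Nat.ModEq.trans ?_ h1.symm)
    refine Nat.modEq_zero_iff_dvd.2 ?_
    obtain ⟨i, rfl⟩ : ∃ i, p = i + 1 := ⟨p - 1, by omega⟩
    rw [Nat.add_sub_cancel]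
    exact ⟨i * n + 1, by ring⟩
  have hF : 0 < n * p + 1 := Nat.succ_pos _
  have hme : m * e < n * p + 1 := by
    by_contra hle
    push Not at hle
    have h1 : (n * p + 1) * f ≤ m * e * f := Nat.mul_le_mul_right f hle
    have h2 : (p - 1) * (n * p + 1) < f * (n * p + 1) := Nat.mul_lt_mul_of_pos_right hbig hF
    rw [mul_comm (n * p + 1) f] at h1
    omega
  rcases (by omega : m * e = 0 ∨ m * e = 1 ∨ 1 < m * e) with h0 | h1 | h1
  · exfalso
    rw [h0, zero_mul] at hkey
    have := Nat.mul_pos (show 0 < p - 1 by omega) hF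
    omega
  · obtain ⟨hm1, he1⟩ := mul_eq_one.1 h1
    subst hm1 he1
    rw [mul_one] at he hm
    have hqle : q ≤ p - 1 := Nat.le_of_dvd (by omega) hq
    have hdle : d ≤ q := Nat.le_of_dvd hq0 hd
    refine ⟨by omega, ?_⟩
    rw [← hdD, hm, show q = d by omega]
  · exact (false_of_dvd hp2 hnF ⟨D, by rw [hm, mul_comm]⟩ ⟨d, by rw [he, mul_comm]⟩ hmod h1 hme).elim

/-- The shape of the exceptional degree. -/
theorem exceptional {p q t n a b f : ℕ} {σ : ℤ} (hp : p.Prime) (hσ : σ = 1 ∨ σ = -1)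
    (hqt : q * t + 1 = p) (ht : 2 ≤ t) (hq : 2 ≤ q) (hn : 1 ≤ n) (hnF : NotForm p n)
    (hab : a + b + 1 = q) (hf : 1 ≤ f) (hrat : (f : ℤ) ≡ -σ * q [ZMOD p])
    (heq : 1 + (a : ℤ) * (n * p + 1) - b * ((p : ℤ) - 1) + σ * f = 0)
    (hdvd : f ∣ q * (n * p + 1)) :
    f = q ∨ ∃ w : ℕ, 1 ≤ w ∧ σ = 1 ∧ a * (n + 1) + w + 1 = q ∧ f + q = w * p ∧ n + 1 = w * t := by
  have hp2 := hp.two_le
  have hqt2 : 2 * q ≤ q * t := by rw [mul_comm 2 q]; exact Nat.mul_le_mul_left q ht
  have hqp : q < p := by omega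
  have hF : 2 ≤ n * p + 1 := by
    have := Nat.mul_le_mul hn hp2
    omega
  obtain ⟨d, D, hd, hD, hdD⟩ := Nat.dvd_mul.1 hdvd
  rcases hσ with rfl | rfl
  · right
    have hfq : p ∣ f + q := by
      rw [Int.modEq_iff_dvd] at hrat
      have h1 := hrat.neg_right
      rw [show -(-(1 : ℤ) * q - f) = ((f + q : ℕ) : ℤ) by push_cast; ring] at h1
      exact Int.natCast_dvd_natCast.1 h1
    have htf : 2 ≤ t * f := by nlinarith
    have hmod : t * f ≡ 1 [MOD p] := by
      refine Nat.ModEq.add_right_cancel' (q * t) ?_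
      rw [show 1 + q * t = p by omega, show t * f + q * t = t * (f + q) by ring]
      exact (Nat.modEq_zero_iff_dvd.2 (dvd_mul_of_dvd_right hfq t)).trans
        (Nat.modEq_zero_iff_dvd.2 dvd_rfl).symm
    have hge : n * p + 1 ≤ t * f := by
      by_contra hlt
      push Not at hlt
      have e : D * (t * d) = t * f := by rw [← hdD]; ring
      refine false_of_dvd hp2 hnF hD ?_ (e ▸ hmod) (by omega) (by omega)
      rw [show p - 1 = t * q by rw [mul_comm]; omega]
      exact mul_dvd_mul_left t hd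
    obtain ⟨g, hg⟩ := hdvd
    have hgle : g ≤ q * t := by
      have h1 : f * g ≤ f * (q * t) := by
        rw [← hg, show f * (q * t) = q * (t * f) by ring]
        exact Nat.mul_le_mul_left q hge
      exact Nat.le_of_mul_le_mul_left h1 (by omega)
    have hfp : ¬ p ∣ f := fun h => by
      have := Nat.le_of_dvd (by omega) ((Nat.dvd_add_right h).1 hfq)
      omega
    have hg1 : p ∣ g + 1 := by
      have h1 : p ∣ f * (g + 1) := by
        rw [Nat.mul_add, mul_one, ← hg, show q * (n * p + 1) + f = p * (q * n) + (f + q) by ring]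
        exact dvd_add (dvd_mul_right _ _) hfq
      exact (hp.dvd_mul.1 h1).resolve_left hfp
    have hgv : g = q * t := by
      have := Nat.le_of_dvd (by omega) hg1
      omega
    have htfv : t * f = n * p + 1 := by
      refine Nat.eq_of_mul_eq_mul_left (show 0 < q by omega) ?_
      rw [hg, hgv]; ring
    obtain ⟨w, hw⟩ := hfq
    have hw0 : 1 ≤ w := Nat.one_le_iff_ne_zero.2 fun h => by rw [h, mul_zero] at hw; omega
    have hnw : n + 1 = w * t := by
      refine Nat.eq_of_mul_eq_mul_left hp.pos ?_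
      calc p * (n + 1) = (n * p + 1) + q * t := by rw [← hqt]; ring
        _ = t * (f + q) := by rw [← htfv]; ring
        _ = p * (w * t) := by rw [hw]; ring
    refine ⟨w, hw0, rfl, ?_, by rw [hw, mul_comm], hnw⟩
    have hab' : (b : ℤ) = q - 1 - a := by omega
    have hw' : (f : ℤ) = p * w - q := by
      have : ((f + q : ℕ) : ℤ) = ((p * w : ℕ) : ℤ) := by rw [hw]
      push_cast at this
      linarith
    rw [hab', hw'] at heq
    have e : (p : ℤ) * ((a * (n + 1) + w + 1 : ℤ) - q) = 0 := by linear_combination heq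
    have e2 := (mul_eq_zero.1 e).resolve_left (by exact_mod_cast hp.ne_zero)
    have e3 : ((a * (n + 1) + w + 1 : ℕ) : ℤ) = (q : ℤ) := by push_cast; linarith
    exact_mod_cast e3
  · left
    have hfq : f ≡ q [MOD p] := by
      rw [← Int.natCast_modEq_iff]
      simpa using hrat
    rcases lt_trichotomy f q with hlt | he' | hgt
    · exact absurd (Nat.ModEq.eq_of_lt_of_lt hfq (by omega) hqp) hlt.ne
    · exact he'
    exfalso
    obtain ⟨c, hc⟩ := hd
    obtain ⟨m, hm⟩ := hD
    have hkey : m * c * f = q * (n * p + 1) := by rw [hc, hm, ← hdD]; ring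
    have hfp : ¬ p ∣ f := fun h => by
      have := Nat.le_of_dvd (by omega) ((Nat.modEq_zero_iff_dvd.1 (hfq.symm.trans (Nat.modEq_zero_iff_dvd.2 h))))
      omega
    have hmod : m * c ≡ 1 [MOD p] := by
      refine modEq_cancel hp hfp ?_
      rw [hkey, one_mul]
      refine Nat.ModEq.trans ?_ hfq.symm
      show q * (n * p + 1) % p = q % p
      rw [show q * (n * p + 1) = q + p * (q * n) by ring, Nat.add_mul_mod_self_left]
    have hmc : m * c < n * p + 1 := by
      by_contra hle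
      push Not at hle
      have h1 : (n * p + 1) * f ≤ m * c * f := Nat.mul_le_mul_right f hle
      have h2 : q * (n * p + 1) < f * (n * p + 1) := Nat.mul_lt_mul_of_pos_right hgt (by omega)
      rw [mul_comm (n * p + 1) f] at h1
      omega
    rcases (by omega : m * c = 0 ∨ m * c = 1 ∨ 1 < m * c) with h0 | h1 | h1
    · rw [h0, zero_mul] at hkey
      have := Nat.mul_pos (show 0 < q by omega) (show 0 < n * p + 1 by omega)
      omega
    · rw [h1, one_mul] at hkey
      have ha : (a : ℤ) + 1 ≤ q := by omega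
      rw [hkey] at heq
      push_cast at heq
      have hF' : (2 : ℤ) ≤ (n : ℤ) * p + 1 := by exact_mod_cast hF
      nlinarith [mul_le_mul_of_nonneg_right ha (show (0 : ℤ) ≤ (n : ℤ) * p + 1 by linarith),
        mul_nonneg (Int.natCast_nonneg b) (show (0 : ℤ) ≤ (p : ℤ) - 1 by omega)]
    · refine false_of_dvd hp2 hnF ⟨D, by rw [hm, mul_comm]⟩ ?_ hmod h1 hmc
      exact (Dvd.intro_left d hc.symm).trans ⟨t, by omega⟩

end CfsgLib.SmallSylow.Arith
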