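import Cfsg.Agent.Lib.SmallSylow.Block
import Cfsg.Agent.Lib.SmallSylow.Arith
import Cfsg.Agent.S4729
import Cfsg.Agent.S4508
import Cfsg.Agent.Lib.CharTheory.ExtCriteria

/-!
# Sylow subgroups of prime order in perfect groups: the degrees of the principal block
-/

namespace CfsgLib.SmallSylow

open Cfsg CfsgLib.Blocks CfsgLib.CharTheory CfsgLib.CharTheory.SmallDegree
open scoped ComplexConjugate

set_option linter.unusedVariables false
set_option linter.style.haveILetI false
set_option linter.unusedSectionVars false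

universe u

variable {G : Type u} [Group G] [Fintype G] {p : ℕ} [Fact p.Prime] {M : Ideal AlgInt}

theorem eq_one_of_degree_one (hperf : commutator G = ⊤) {χ : IrrCharacter G}
    (h : charDegree (χ : G → ℂ) = 1) : χ = oneIrr G := by
  obtain ⟨lam, hlam⟩ := exists_hom_of_degree_one (isCharacter_of_irr χ.2)
    (by rw [← irr_charDegree_cast, h, Nat.cast_one])
  refine Subtype.ext (funext fun g => ?_)
  have hg : g ∈ lam.ker := Abelianization.commutator_subset_ker _ (hperf ▸ Subgroup.mem_top g)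
  rw [hlam]
  show ((lam g : ℂˣ) : ℂ) = 1
  rw [MonoidHom.mem_ker.1 hg, Units.val_one]

theorem charDegree_oneIrr : charDegree (oneIrr G : G → ℂ) = 1 := by
  apply Nat.cast_injective (R := ℂ)
  rw [irr_charDegree_cast, Nat.cast_one]
  rfl

/-- The Sylow subgroup is not centralized by its normalizer. -/
theorem two_le_inIdx (hperf : commutator G = ⊤) (P : Sylow p G) (hP : Nat.card P = p) :
    2 ≤ inIdx P := by
  by_contra hlt
  have h0 : 0 < inIdx P := Nat.pos_of_ne_zero Subgroup.index_ne_zero_of_finite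
  have hle : Subgroup.normalizer ((P : Subgroup G) : Set G) ≤
      Subgroup.centralizer ((P : Subgroup G) : Set G) := by
    rw [← Subgroup.relIndex_eq_one]
    show inIdx P = 1
    omega
  have hc := MonoidHom.ker_transferSylow_isComplement' P hle
  have htop : (MonoidHom.transferSylow P hle).ker = ⊤ := by
    haveI : IsMulCommutative (P : Subgroup G) := by
      haveI : IsCyclic (P : Subgroup G) :=
        isCyclic_of_prime_card (show Nat.card (P : Subgroup G) = p from hP)
      infer_instance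
    letI : CommGroup (P : Subgroup G) :=
      { (inferInstance : Group (P : Subgroup G)) with mul_comm := fun a b => mul_comm' a b }
    rw [eq_top_iff, ← hperf]
    exact Abelianization.commutator_subset_ker _
  rw [htop] at hc
  have h1 := hc.card_mul_card
  rw [Subgroup.card_top, show Nat.card (P : Subgroup G) = p from hP] at h1
  have hp1 := (Fact.out : p.Prime).one_lt
  have hG : 0 < Nat.card G := Nat.card_pos
  nlinarith

theorem prime_ne_two (hperf : commutator G = ⊤) (P : Sylow p G) (hP : Nat.card P = p) : p ≠ 2 := by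
  rintro rfl
  have h2 := two_le_inIdx hperf P hP
  have h := DefectOne.setup_sylow P hP
  haveI := DefectOne.isCyclic_mulAut h hP
  haveI : IsCyclic (P : Subgroup G) := isCyclic_of_prime_card (show Nat.card (P : Subgroup G) = 2 from hP)
  have h1 : inIdx P ∣ Nat.card (MulAut (P : Subgroup G)) := by
    show ((Subgroup.centralizer ((P : Subgroup G) : Set G)).subgroupOf
      (Subgroup.normalizer ((P : Subgroup G) : Set G))).index ∣ _
    rw [← Subgroup.normalizerMonoidHom_ker, Subgroup.index_ker]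
    exact Subgroup.card_subgroup_dvd_card _
  rw [IsCyclic.card_mulAut, show Nat.card (P : Subgroup G) = 2 from hP, Nat.totient_prime Nat.prime_two] at h1
  have := Nat.le_of_dvd one_pos h1
  omega

variable {P : Sylow p G} {X Y : Finset (IrrCharacter G)} {δ : IrrCharacter G → ℤ} {σ : ℤ}

theorem Data.inIdx_dvd (D : Data P M X Y δ σ) : inIdx P ∣ p - 1 := ⟨Y.card, by rw [← D.cardY, mul_comm]⟩

theorem Data.one_mem (D : Data P M X Y δ σ) (hM : IsPModular p M) :
    oneIrr G ∈ X ∨ oneIrr G ∈ Y := (D.union _).1 (oneIrr_mem hM)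

theorem eq_of_modEq_one {f : ℕ} (hf : 1 ≤ f) (h : (f : ℤ) ≡ 1 [ZMOD p]) :
    ∃ u, f = u * p + 1 := by
  rw [Int.modEq_iff_dvd] at h
  obtain ⟨k, hk⟩ := h.neg_right
  have hp0 : (0 : ℤ) < p := by exact_mod_cast (Fact.out : p.Prime).pos
  have hk0 : 0 ≤ k := by nlinarith
  refine ⟨k.toNat, ?_⟩
  have : ((k.toNat : ℕ) : ℤ) = k := Int.toNat_of_nonneg hk0
  have h2 : (f : ℤ) = ((k.toNat * p + 1 : ℕ) : ℤ) := by push_cast; rw [this]; linarith
  exact_mod_cast h2

theorem eq_of_modEq_neg_one {f : ℕ} (hf : 1 ≤ f) (h : (f : ℤ) ≡ -1 [ZMOD p]) :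
    ∃ u, f + 1 = u * p := by
  rw [Int.modEq_iff_dvd] at h
  obtain ⟨k, hk⟩ := h.neg_right
  have hp0 : (0 : ℤ) < p := by exact_mod_cast (Fact.out : p.Prime).pos
  have hk0 : 0 ≤ k := by nlinarith
  refine ⟨k.toNat, ?_⟩
  have : ((k.toNat : ℕ) : ℤ) = k := Int.toNat_of_nonneg hk0
  have h2 : ((f + 1 : ℕ) : ℤ) = ((k.toNat * p : ℕ) : ℤ) := by push_cast; rw [this]; linarith
  exact_mod_cast h2

/-- The possible degrees of a nontrivial character with constant value on the Sylow subgroup. -/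
theorem degree_cases (hperf : commutator G = ⊤) (hP : Nat.card P = p) {n : ℕ}
    (hn : Nat.card (Sylow p G) = n * p + 1) (hn1 : 1 ≤ n) (hnF : Arith.NotForm p n)
    (hq : inIdx P ∣ p - 1) {χ : IrrCharacter G}
    (hne : χ ≠ oneIrr G) {d : ℤ} (hd : d = 1 ∨ d = -1)
    (hmod : (charDegree (χ : G → ℂ) : ℤ) ≡ d [ZMOD p])
    (hdvd : charDegree (χ : G → ℂ) ∣ inIdx P * Nat.card (Sylow p G)) :
    (d = 1 ∧ charDegree (χ : G → ℂ) = n * p + 1) ∨ (d = -1 ∧ charDegree (χ : G → ℂ) + 1 = p) ∨
      (d = -1 ∧ inIdx P + 1 = p ∧ charDegree (χ : G → ℂ) = inIdx P * (n * p + 1)) := by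
  have hp := (Fact.out : p.Prime)
  have hp3 : 3 ≤ p := by have := prime_ne_two hperf P hP; have := hp.two_le; omega
  rw [hn] at hdvd
  have hf : 1 ≤ charDegree (χ : G → ℂ) := Nat.one_le_iff_ne_zero.2 fun h =>
    irr_one_ne_zero χ (by rw [← irr_charDegree_cast, h, Nat.cast_zero])
  have hq0 : 0 < inIdx P := Nat.pos_of_ne_zero Subgroup.index_ne_zero_of_finite
  rcases hd with rfl | rfl
  · left
    obtain ⟨u, hu⟩ := eq_of_modEq_one (p := p) hf hmod
    have hu0 : 0 < u := Nat.pos_of_ne_zero fun h0 => hne (eq_one_of_degree_one hperf (by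
      rw [hu, h0, zero_mul, zero_add]))
    rw [hu] at hdvd ⊢
    exact ⟨rfl, by rw [Arith.plus_degree hp hq hnF hu0 hdvd]⟩
  · right
    obtain ⟨u, hu⟩ := eq_of_modEq_neg_one (p := p) hf hmod
    rcases Arith.minus_degree hp hq hq0 hnF hu hdvd with h | ⟨h1, h2⟩
    · exact Or.inl ⟨rfl, h⟩
    · exact Or.inr ⟨rfl, h1, h2⟩

theorem dvd_of_sum {ι : Type*} {s : Finset ι} {f : ι → ℤ} {F : ℤ} (h : ∀ i ∈ s, F ∣ f i) :
    F ∣ ∑ i ∈ s, f i := Finset.dvd_sum h

/-- The relation of the degrees. -/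
theorem Data.degree_relation (D : Data P M X Y δ σ) (hp : p.Prime) {η : IrrCharacter G} (hη : η ∈ Y) :
    ∑ χ ∈ X, δ χ * (charDegree (χ : G → ℂ) : ℤ) + σ * (charDegree (η : G → ℂ) : ℤ) = 0 := by
  have h := D.relation η hη 1 (by rw [orderOf_one]; exact hp.not_dvd_one)
  simp only [← irr_charDegree_cast] at h
  have h2 : ((∑ χ ∈ X, δ χ * (charDegree (χ : G → ℂ) : ℤ) +
      σ * (charDegree (η : G → ℂ) : ℤ) : ℤ) : ℂ) = 0 := by
    push_cast
    exact h
  exact_mod_cast h2

/-- For `inIdx P = p - 1` all characters of the block have constant value on the Sylow subgroup. -/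
theorem Data.single (D : Data P M X Y δ σ) (hp : p.Prime) (h : inIdx P + 1 = p)
    {η : IrrCharacter G} (hη : η ∈ Y) :
    Y = {η} ∧ ((charDegree (η : G → ℂ) : ℤ) ≡ σ [ZMOD p]) ∧
      ∀ x ∈ (P : Subgroup G), x ≠ 1 → (η : G → ℂ) x = σ := by
  have hY : Y.card = 1 := by
    have h1 := D.cardY
    rw [show p - 1 = inIdx P by omega] at h1
    have := hp.two_le
    exact Nat.eq_of_mul_eq_mul_right (show 0 < inIdx P by omega) (by rw [h1, one_mul])
  obtain ⟨η', hη'⟩ := Finset.card_eq_one.1 hY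
  have : η = η' := by rw [hη'] at hη; exact Finset.mem_singleton.1 hη
  subst this
  refine ⟨hη', (D.degY η hη).trans ?_, fun x hx hx1 => ?_⟩
  · have e : (inIdx P : ℤ) = (p : ℤ) - 1 := by
      have : ((inIdx P + 1 : ℕ) : ℤ) = p := by exact_mod_cast h
      push_cast at this
      linarith
    rw [Int.modEq_iff_dvd, e]
    exact ⟨σ, by ring⟩
  · have := D.sumY x hx hx1
    rwa [hη', Finset.sum_singleton] at this

/-- The block contains a character of degree `p - 1`. -/
theorem exists_pred_degree (hperf : commutator G = ⊤) (hP : Nat.card P = p) {n : ℕ}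
    (hn : Nat.card (Sylow p G) = n * p + 1) (hn1 : 1 ≤ n) (hnF : Arith.NotForm p n)
    (D : Data P M X Y δ σ) (hM : IsPModular p M) :
    ∃ χ : IrrCharacter G, χ ∈ principalBlock M G ∧ charDegree (χ : G → ℂ) + 1 = p ∧
      ∀ x ∈ (P : Subgroup G), x ≠ 1 → (χ : G → ℂ) x = -1 := by
  classical
  have hp := (Fact.out : p.Prime)
  have hp3 : 3 ≤ p := by have := prime_ne_two hperf P hP; have := hp.two_le; omega
  have hq2 := two_le_inIdx hperf P hP
  have hqd := D.inIdx_dvd
  have hYne : Y.Nonempty := by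
    rw [← Finset.card_pos]
    rcases Nat.eq_zero_or_pos Y.card with h | h
    · have := D.cardY; rw [h, zero_mul] at this; omega
    · exact h
  obtain ⟨η, hη⟩ := hYne
  obtain ⟨x₀, hx₀, hx₀1⟩ := exists_mem_ne P hP
  by_contra hno
  push Not at hno
  set F : ℕ := n * p + 1 with hF
  have hF2 : 2 ≤ F := by
    have : 1 ≤ n * p := Nat.one_le_iff_ne_zero.2 (Nat.mul_ne_zero (by omega) hp.ne_zero)
    omega
  have hXcase : ∀ χ ∈ X, χ ≠ oneIrr G →
      (δ χ = 1 ∧ charDegree (χ : G → ℂ) = F) ∨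
      (δ χ = -1 ∧ inIdx P + 1 = p ∧ charDegree (χ : G → ℂ) = inIdx P * F) := by
    intro χ hχ hne
    rcases degree_cases hperf hP hn hn1 hnF hqd hne (D.hδ χ hχ) (D.degX χ hχ) (D.dvdX χ hχ) with
      h | ⟨h1, h2⟩ | h
    · exact Or.inl h
    · exfalso
      obtain ⟨x, hx, hx1, hxv⟩ := hno χ ((D.union χ).2 (Or.inl hχ)) h2
      exact hxv (by rw [D.valX χ hχ x hx hx1, h1]; norm_num)
    · exact Or.inr h
  have hone : ∀ χ : IrrCharacter G, χ = oneIrr G → χ ∈ X → δ χ = 1 := by
    intro χ hχ hmem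
    have h := D.valX χ hmem x₀ hx₀ hx₀1
    rw [hχ] at h ⊢
    have h' : ((δ (oneIrr G) : ℤ) : ℂ) = ((1 : ℤ) : ℂ) := by rw [← h, Int.cast_one]; rfl
    exact_mod_cast h'
  have hrel := D.degree_relation hp hη
  by_cases hqp : inIdx P + 1 = p
  · -- every nontrivial degree is divisible by `F`
    obtain ⟨hYs, hdeg, hval⟩ := D.single hp hqp hη
    have hηcase : η ≠ oneIrr G → (F : ℤ) ∣ σ * (charDegree (η : G → ℂ) : ℤ) := by
      intro hne
      refine Dvd.dvd.mul_left (Int.natCast_dvd_natCast.2 ?_) _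
      rcases degree_cases hperf hP hn hn1 hnF hqd hne D.hσ hdeg (D.dvdY η hη) with
        ⟨-, h⟩ | ⟨h1, h2⟩ | ⟨-, -, h⟩
      · rw [h]
      · exfalso
        obtain ⟨x, hx, hx1, hxv⟩ := hno η ((D.union η).2 (Or.inr hη)) h2
        exact hxv (by rw [hval x hx hx1, h1]; norm_num)
      · rw [h]; exact dvd_mul_left _ _
    have hXdvd : ∀ χ ∈ X, χ ≠ oneIrr G → (F : ℤ) ∣ δ χ * (charDegree (χ : G → ℂ) : ℤ) := by
      intro χ hχ hne
      refine Dvd.dvd.mul_left (Int.natCast_dvd_natCast.2 ?_) _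
      rcases hXcase χ hχ hne with ⟨-, h⟩ | ⟨-, -, h⟩
      · rw [h]
      · rw [h]; exact dvd_mul_left _ _
    have hF1 : (F : ℤ) ∣ 1 := by
      rcases D.one_mem hM with h1 | h1
      · have hne : η ≠ oneIrr G := fun e => Finset.disjoint_left.1 D.disj h1 (e ▸ hη)
        rw [← Finset.add_sum_erase _ _ h1, hone _ rfl h1, charDegree_oneIrr] at hrel
        have h2 : (F : ℤ) ∣ ∑ χ ∈ X.erase (oneIrr G), δ χ * (charDegree (χ : G → ℂ) : ℤ) :=
          dvd_of_sum fun χ hχ => hXdvd χ (Finset.mem_of_mem_erase hχ) (Finset.ne_of_mem_erase hχ)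
        have := (h2.add (hηcase hne)).neg_right
        push_cast at hrel
        rwa [show -(∑ χ ∈ X.erase (oneIrr G), δ χ * (charDegree (χ : G → ℂ) : ℤ) +
          σ * (charDegree (η : G → ℂ) : ℤ)) = 1 by linarith] at this
      · have hη1 : η = oneIrr G := by
          rw [hYs] at h1
          exact (Finset.mem_singleton.1 h1).symm
        have hσ1 : σ = 1 := by
          have h := hval x₀ hx₀ hx₀1
          rw [hη1] at h
          have h' : ((σ : ℤ) : ℂ) = ((1 : ℤ) : ℂ) := by rw [← h, Int.cast_one]; rfl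
          exact_mod_cast h'
        have h2 : (F : ℤ) ∣ ∑ χ ∈ X, δ χ * (charDegree (χ : G → ℂ) : ℤ) :=
          dvd_of_sum fun χ hχ => hXdvd χ hχ fun e => Finset.disjoint_left.1 D.disj hχ (by rw [e, ← hη1]; exact hη)
        have := h2.neg_right
        rw [hσ1, hη1, charDegree_oneIrr] at hrel
        push_cast at hrel
        rwa [show -(∑ χ ∈ X, δ χ * (charDegree (χ : G → ℂ) : ℤ)) = 1 by linarith] at this
    have := Int.le_of_dvd one_pos hF1
    omega
  · -- the exceptional degree would be too large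
    have hYc : 2 ≤ Y.card := by
      by_contra hlt
      have h1 := D.cardY
      have : 0 < Y.card := Finset.card_pos.2 ⟨η, hη⟩
      rw [show Y.card = 1 by omega, one_mul] at h1
      omega
    have h1X : oneIrr G ∈ X := by
      refine (D.one_mem hM).resolve_right fun h1 => ?_
      obtain ⟨η', hη', hne⟩ := Finset.exists_mem_ne hYc (oneIrr G)
      refine hne (eq_one_of_degree_one hperf ?_)
      have h2 := D.agree η' hη' _ h1 1 (by rw [orderOf_one]; exact hp.not_dvd_one)
      rw [← irr_charDegree_cast, ← irr_charDegree_cast, charDegree_oneIrr, Nat.cast_inj] at h2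
      exact h2
    rw [← Finset.add_sum_erase _ _ h1X, hone _ rfl h1X, charDegree_oneIrr] at hrel
    rw [Finset.sum_congr rfl fun χ hχ => show δ χ * (charDegree (χ : G → ℂ) : ℤ) = (F : ℤ) by
      rcases hXcase χ (Finset.mem_of_mem_erase hχ) (Finset.ne_of_mem_erase hχ) with ⟨h1, h2⟩ | ⟨-, h, -⟩
      · rw [h1, h2, one_mul]
      · exact absurd h hqp,
      Finset.sum_const, Finset.card_erase_of_mem h1X, D.cardX, nsmul_eq_mul,
      Nat.cast_sub (show 1 ≤ inIdx P by omega)] at hrel
    push_cast at hrel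
    set q : ℤ := (inIdx P : ℤ) with hq
    have hq2' : (2 : ℤ) ≤ q := by rw [hq]; exact_mod_cast hq2
    have hF2' : (2 : ℤ) ≤ (F : ℤ) := by exact_mod_cast hF2
    have hσn : σ = -1 := D.hσ.resolve_left fun h => by
      rw [h] at hrel
      have : (0 : ℤ) ≤ (q - 1) * F := mul_nonneg (by linarith) (by linarith)
      have : (0 : ℤ) ≤ (charDegree (η : G → ℂ) : ℤ) := Nat.cast_nonneg _
      linarith
    rw [hσn] at hrel
    obtain ⟨c, hc⟩ := D.dvdY η hη
    have hc' : q * (F : ℤ) = ((q - 1) * F + 1) * c := by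
      rw [show (q - 1) * (F : ℤ) + 1 = (charDegree (η : G → ℂ) : ℤ) by linarith, hq, ← hn]
      exact_mod_cast hc
    rcases (by omega : c = 0 ∨ c = 1 ∨ 2 ≤ c) with rfl | rfl | hc2
    · simp at hc'
      omega
    · push_cast at hc'
      linarith
    · have hc2' : (2 : ℤ) ≤ c := by exact_mod_cast hc2
      have h1 := mul_le_mul_of_nonneg_left hc2' (show (0 : ℤ) ≤ (q - 1) * F + 1 by nlinarith)
      have h2 := mul_le_mul_of_nonneg_right hq2' (show (0 : ℤ) ≤ (F : ℤ) by linarith)
      linarith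

/-- The Sylow subgroup is self-centralizing. -/
theorem self_centralizing (hperf : commutator G = ⊤) (P : Sylow p G) (hP : Nat.card P = p) {n : ℕ}
    (hn : Nat.card (Sylow p G) = n * p + 1) (hn1 : 1 ≤ n) (hnF : Arith.NotForm p n)
    (hcore : ∀ K : Subgroup G, K.Normal → ¬ p ∣ Nat.card K → K = ⊥) :
    Subgroup.centralizer ((P : Subgroup G) : Set G) = (P : Subgroup G) := by
  classical
  have hp := (Fact.out : p.Prime)
  have hp3 : 3 ≤ p := by have := prime_ne_two hperf P hP; have := hp.two_le; omega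
  obtain ⟨M, hM⟩ := exists_pModular hp
  obtain ⟨X, Y, δ, σ, D⟩ := exists_data hM (prime_ne_two hperf P hP) P hP
  obtain ⟨χ, hχ, hdeg, hval⟩ := exists_pred_degree hperf hP hn hn1 hnF D hM
  have hfaith : ∀ g : G, (χ : G → ℂ) g = (χ : G → ℂ) 1 → g = 1 := by
    have hK : charKernel (χ : G → ℂ) (isCharacter_of_irr χ.2) = ⊥ := by
      refine hcore _ inferInstance fun hd => ?_
      obtain ⟨⟨g, hg⟩, hgo⟩ := exists_prime_orderOf_dvd_card' p hd
      rw [← Subgroup.orderOf_coe] at hgo
      obtain ⟨S, hS⟩ := (IsPGroup.of_card (p := p) (n := 1)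
        (G := Subgroup.zpowers g) (by rw [Nat.card_zpowers, hgo, pow_one])).exists_le_sylow
      obtain ⟨c, hc⟩ := MulAction.exists_smul_eq G S P
      have hmem : c * g * c⁻¹ ∈ (P : Subgroup G) := by
        rw [← hc]
        exact ⟨g, hS (Subgroup.mem_zpowers g), rfl⟩
      have hne : c * g * c⁻¹ ≠ 1 := fun h => hp.ne_one (by
        have h1g : orderOf g = 1 := by rw [conj_eq_one_iff.1 h, orderOf_one]
        exact hgo.symm.trans h1g)
      have h1 := hval _ hmem hne
      rw [isClassFunction_irr χ.2, (mem_charKernel _ g).1 hg, ← irr_charDegree_cast] at h1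
      have h2 : ((charDegree (χ : G → ℂ) + 1 : ℕ) : ℂ) = 0 := by push_cast; rw [h1]; ring
      rw [Nat.cast_eq_zero] at h2
      omega
    intro g hg
    have : g ∈ charKernel (χ : G → ℂ) (isCharacter_of_irr χ.2) := (mem_charKernel _ g).2 hg
    rwa [hK, Subgroup.mem_bot] at this
  have hpg := Cfsg.Agent.S4729.result p M hM hperf P χ hχ hfaith (by omega)
  exact P.is_maximal' hpg (DefectOne.setup_sylow P hP).le_cent

/-- The inertial index is less than `p - 1`. -/
theorem inIdx_lt (hperf : commutator G = ⊤) (P : Sylow p G) (hP : Nat.card P = p) {n : ℕ}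
    (hn : Nat.card (Sylow p G) = n * p + 1) (hn1 : 1 ≤ n) (hnF : Arith.NotForm p n)
    (hC : Subgroup.centralizer ((P : Subgroup G) : Set G) = (P : Subgroup G)) :
    inIdx P + 1 ≠ p := by
  classical
  intro hqp
  have hp := (Fact.out : p.Prime)
  obtain ⟨M, hM⟩ := exists_pModular hp
  obtain ⟨X, Y, δ, σ, D⟩ := exists_data hM (prime_ne_two hperf P hP) P hP
  obtain ⟨χ, hχ, hdeg, hval⟩ := exists_pred_degree hperf hP hn hn1 hnF D hM
  obtain ⟨x, hx, hx1⟩ := exists_mem_ne P hP
  have hxo := orderOf_mem P hP hx hx1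
  have hPx : Subgroup.zpowers x = (P : Subgroup G) :=
    (DefectOne.zpowers_eq (DefectOne.setup_sylow P hP) hP hx hx1).1
  have hCx : Subgroup.centralizer ({x} : Set G) = Subgroup.zpowers x := by
    rw [centralizer_eq P hP hx hx1, hC, hPx]
  set N := Subgroup.normalizer ((P : Subgroup G) : Set G) with hN
  -- conjugation by `N` reaches every nontrivial element of `P`
  have hfull : ∀ g : G, orderOf g = p → IsConj x g := by
    intro g hg
    obtain ⟨S, hS⟩ := (IsPGroup.of_card (p := p) (n := 1)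
      (G := Subgroup.zpowers g) (by rw [Nat.card_zpowers, hg, pow_one])).exists_le_sylow
    obtain ⟨c, hc⟩ := MulAction.exists_smul_eq G S P
    have hmem : c * g * c⁻¹ ∈ (P : Subgroup G) := by
      rw [← hc]
      exact ⟨g, hS (Subgroup.mem_zpowers g), rfl⟩
    have hne : c * g * c⁻¹ ≠ 1 := fun h => hp.ne_one (by
      rw [← hg, conj_eq_one_iff.1 h, orderOf_one])
    let T : Set G := {y | ∃ a ∈ N, a * x * a⁻¹ = y}
    have hT : T ⊆ ((P : Subgroup G) : Set G) \ {1} := by
      rintro y ⟨a, ha, rfl⟩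
      exact ⟨(Subgroup.mem_normalizer_iff.1 ha x).1 hx, fun h => hx1 (conj_eq_one_iff.1 h)⟩
    let f : N ⧸ (Subgroup.centralizer ({x} : Set G)).subgroupOf N → T :=
      Quotient.lift (fun a => ⟨(a : G) * x * (a : G)⁻¹, (a : G), a.2, rfl⟩) (fun a b hab => by
        have h := Subgroup.mem_subgroupOf.1 (QuotientGroup.leftRel_apply.1 hab)
        rw [Subgroup.mem_centralizer_singleton_iff] at h
        have h' : (a : G)⁻¹ * b * x = x * ((a : G)⁻¹ * b) := h
        refine Subtype.ext ?_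
        calc (a : G) * x * (a : G)⁻¹ = a * (x * ((a : G)⁻¹ * b)) * (b : G)⁻¹ := by group
          _ = a * ((a : G)⁻¹ * b * x) * (b : G)⁻¹ := by rw [h']
          _ = b * x * (b : G)⁻¹ := by group)
    have hf : Function.Injective f := by
      intro a b
      induction a using QuotientGroup.induction_on
      induction b using QuotientGroup.induction_on
      rename_i a b
      intro h
      have h' : (a : G) * x * (a : G)⁻¹ = (b : G) * x * (b : G)⁻¹ := congrArg Subtype.val h
      refine QuotientGroup.eq.2 ?_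
      rw [Subgroup.mem_subgroupOf, Subgroup.mem_centralizer_singleton_iff]
      show (a : G)⁻¹ * b * x = x * ((a : G)⁻¹ * b)
      calc (a : G)⁻¹ * b * x = (a : G)⁻¹ * ((b : G) * x * (b : G)⁻¹) * b := by group
        _ = (a : G)⁻¹ * ((a : G) * x * (a : G)⁻¹) * b := by rw [h']
        _ = x * ((a : G)⁻¹ * b) := by group
    have h1 : p - 1 ≤ Nat.card T := by
      refine le_trans (le_of_eq ?_) (Nat.card_le_card_of_injective f hf)
      rw [← Subgroup.index_eq_card, centralizer_eq P hP hx hx1]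
      show p - 1 = inIdx P
      omega
    have h2 : T = ((P : Subgroup G) : Set G) \ {1} := by
      refine Set.eq_of_subset_of_ncard_le hT ?_
      rw [Set.ncard_sdiff_singleton_of_mem (Subgroup.one_mem _), ← Nat.card_coe_set_eq,
        ← Nat.card_coe_set_eq]
      rw [show Nat.card ((P : Subgroup G) : Set G) = p from hP]
      exact h1
    have h3 : c * g * c⁻¹ ∈ T := h2 ▸ (⟨hmem, hne⟩ : c * g * c⁻¹ ∈ ((P : Subgroup G) : Set G) \ {1})
    obtain ⟨a, -, ha⟩ := h3
    exact (isConj_iff.2 ⟨a, ha⟩).trans (isConj_iff.2 ⟨c⁻¹, by group⟩)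
  have ht : Nat.card {C : ConjClasses G // ∃ g ∈ C.carrier, orderOf g = p} = 1 := by
    refine Nat.card_eq_one_iff_unique.2 ⟨⟨fun a b => ?_⟩,
      ⟨⟨ConjClasses.mk x, x, ConjClasses.mem_carrier_mk, hxo⟩⟩⟩
    obtain ⟨A, g, hg, hgo⟩ := a
    obtain ⟨B, g', hg', hgo'⟩ := b
    refine Subtype.ext ?_
    show A = B
    rw [← ConjClasses.mem_carrier_iff_mk_eq.1 hg, ← ConjClasses.mem_carrier_iff_mk_eq.1 hg']
    exact ConjClasses.mk_eq_mk_iff_isConj.2 ((hfull g hgo).symm.trans (hfull g' hgo'))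
  rcases Cfsg.Agent.S4508.result p hp x hxo hCx 1 ht χ hdeg with h | h
  · exact Nat.not_even_one h
  · rw [hperf, Subgroup.index_top] at h
    exact Nat.not_even_one h

end CfsgLib.SmallSylow
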