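import Cfsg.Agent.Lib.SmallSylow.Block
import Cfsg.Agent.Lib.CharTheory.PermChar
import Cfsg.Agent.Lib.CharTheory.Monomial
import Cfsg.Agent.Lib.Blocks.DefectZeroProducts
import Cfsg.Agent.S0157
import Cfsg.Agent.S4702

/-!
# Permutation groups of prime degree with Sylow normalizers of order `2p`
-/

namespace CfsgLib.SmallSylow.DegreeP

open Cfsg CfsgLib.Blocks CfsgLib.CharTheory
open scoped ComplexConjugate

set_option linter.unusedVariables false
set_option linter.style.haveILetI false
set_option linter.unusedSectionVars false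

universe u v

variable {G : Type u} [Group G] [Fintype G] {α : Type v} [Fintype α] [DecidableEq α]
  [MulAction G α] {p : ℕ} [Fact p.Prime]

variable (α) in
/-- The number of fixed points. -/
noncomputable def fx (g : G) : ℕ := Nat.card (MulAction.fixedBy α g)

theorem fx_one : fx α (1 : G) = Fintype.card α := by
  rw [fx, MulAction.fixedBy_one_eq_univ, Nat.card_coe_set_eq, Set.ncard_univ, Nat.card_eq_fintype_card]

theorem fx_le (g : G) : fx α g ≤ Fintype.card α := by
  rw [fx, ← Nat.card_eq_fintype_card]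
  exact Finite.card_subtype_le _

theorem eq_one_of_fx_ge [FaithfulSMul G α] {g : G} (h : Fintype.card α ≤ fx α g) : g = 1 := by
  refine eq_of_smul_eq_smul (α := α) fun a => ?_
  have hu : MulAction.fixedBy α g = Set.univ := Set.eq_of_subset_of_ncard_le (Set.subset_univ _) (by
    rw [Set.ncard_univ, Nat.card_eq_fintype_card, ← Nat.card_coe_set_eq]; exact h)
  have ha : a ∈ MulAction.fixedBy α g := hu ▸ Set.mem_univ a
  rw [one_smul]; exact ha

theorem fx_eq_zero_of_orderOf [FaithfulSMul G α] (hα : Fintype.card α = p) {g : G}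
    (hg : orderOf g = p) : fx α g = 0 := by
  classical
  have hp := (Fact.out : p.Prime)
  have h := (IsPGroup.of_card (p := p) (n := 1) (G := Subgroup.zpowers g)
    (by rw [Nat.card_zpowers, hg, pow_one])).card_modEq_card_fixedPoints α
  have e : MulAction.fixedPoints (Subgroup.zpowers g) α = MulAction.fixedBy α g := by
    ext a
    refine ⟨fun ha => ha ⟨g, Subgroup.mem_zpowers g⟩, fun ha x => ?_⟩
    obtain ⟨k, hk⟩ := Subgroup.mem_zpowers_iff.1 x.2
    show (x : G) • a = a
    rw [← hk]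
    exact MulAction.mem_stabilizer_iff.1 (zpow_mem (MulAction.mem_stabilizer_iff.2 ha) k)
  rw [e, Nat.card_eq_fintype_card, hα] at h
  have h0 : fx α g ≡ 0 [MOD p] := h.symm.trans (Nat.modEq_zero_iff_dvd.2 dvd_rfl)
  have hlt : fx α g < p := by
    refine lt_of_le_of_ne ((fx_le g).trans_eq hα) fun he => hp.ne_one ?_
    rw [← hg, eq_one_of_fx_ge (α := α) (g := g) (hα ▸ he.ge), orderOf_one]
  exact Nat.eq_zero_of_dvd_of_lt (Nat.modEq_zero_iff_dvd.1 h0) hlt

theorem fx_eq_zero [FaithfulSMul G α] (hα : Fintype.card α = p) {g : G} (hg : p ∣ orderOf g) :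
    fx α g = 0 := by
  have h1 := fx_eq_zero_of_orderOf (α := α) hα
    (orderOf_pow_orderOf_div (isOfFinOrder_of_finite g).orderOf_pos.ne' hg)
  refine Nat.eq_zero_of_le_zero (h1 ▸ ?_)
  refine Finite.card_le_of_embedding ⟨fun a => ⟨a.1, ?_⟩, fun a b h => Subtype.ext (Subtype.mk.inj h)⟩
  exact MulAction.mem_stabilizer_iff.1 (pow_mem (MulAction.mem_stabilizer_iff.2 a.2) _)

section pair

variable (a b : α)

/-- The stabilizer of two points. -/
def pt2 : Subgroup G := MulAction.stabilizer G a ⊓ MulAction.stabilizer G b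

/-- The stabilizer of an unordered pair. -/
def swp : Subgroup G where
  carrier := {g | (g • a = a ∧ g • b = b) ∨ (g • a = b ∧ g • b = a)}
  mul_mem' := by
    rintro g h (⟨h1, h2⟩ | ⟨h1, h2⟩) (⟨h3, h4⟩ | ⟨h3, h4⟩) <;>
      simp [mul_smul, h1, h2, h3, h4]
  one_mem' := by simp
  inv_mem' := by
    rintro g (⟨h1, h2⟩ | ⟨h1, h2⟩)
    · exact Or.inl ⟨inv_smul_eq_iff.2 h1.symm, inv_smul_eq_iff.2 h2.symm⟩
    · exact Or.inr ⟨inv_smul_eq_iff.2 h2.symm, inv_smul_eq_iff.2 h1.symm⟩

variable {a b}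

/-- The sign on the stabilizer of an unordered pair. -/
noncomputable def sgn (hab : a ≠ b) : swp (G := G) a b →* ℂˣ where
  toFun g := open Classical in if (g : G) • a = a then 1 else -1
  map_one' := by simp
  map_mul' g h := by
    classical
    obtain ⟨g, hg⟩ := g
    obtain ⟨h, hh⟩ := h
    rcases hg with ⟨h1, h2⟩ | ⟨h1, h2⟩ <;> rcases hh with ⟨h3, h4⟩ | ⟨h3, h4⟩ <;>
      simp [mul_smul, h1, h2, h3, h4, hab, hab.symm]

theorem sgn_val (hab : a ≠ b) (g : swp (G := G) a b) :
    ((g : G) ∈ pt2 a b ∧ ((sgn hab g : ℂˣ) : ℂ) = 1) ∨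
      ((g : G) ∉ pt2 a b ∧ ((sgn hab g : ℂˣ) : ℂ) = -1) := by
  classical
  obtain ⟨g, hg⟩ := g
  rcases hg with ⟨h1, h2⟩ | ⟨h1, h2⟩
  · left; simp [pt2, sgn, h1, h2]
  · right; simp [pt2, sgn, h1, hab.symm]

variable [MulAction.IsMultiplyPretransitive G α 2]

theorem exists_swap (hab : a ≠ b) : ∃ g : G, g • a = b ∧ g • b = a :=
  MulAction.is_two_pretransitive_iff.1 inferInstance hab hab.symm

theorem card_swp (hab : a ≠ b) :
    Nat.card (swp (G := G) a b) = 2 * Nat.card (pt2 (G := G) a b) := by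
  classical
  obtain ⟨s, hs1, hs2⟩ := exists_swap (G := G) hab
  have hker : (sgn (G := G) hab).ker = (pt2 a b).subgroupOf (swp a b) := by
    ext g
    rw [MonoidHom.mem_ker, Subgroup.mem_subgroupOf]
    rcases sgn_val hab g with ⟨h1, h2⟩ | ⟨h1, h2⟩
    · exact iff_of_true (Units.ext h2) h1
    · refine iff_of_false (fun h => ?_) h1
      rw [h, Units.val_one] at h2
      norm_num at h2
  have hle : pt2 (G := G) a b ≤ swp a b := fun g hg => Or.inl hg
  have hrange : Nat.card (sgn (G := G) hab).range = 2 := by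
    have hset : ((sgn (G := G) hab).range : Set ℂˣ) = {1, -1} := by
      ext x
      constructor
      · rintro ⟨g, rfl⟩
        rcases sgn_val hab g with ⟨-, h⟩ | ⟨-, h⟩
        · exact Or.inl (Units.ext h)
        · exact Or.inr (Units.ext (by rw [h, Units.val_neg, Units.val_one]))
      · rintro (rfl | rfl)
        · exact ⟨1, map_one _⟩
        · exact ⟨⟨s, Or.inr ⟨hs1, hs2⟩⟩, by simp [sgn, hs1, hab.symm]⟩
    show Nat.card ((sgn (G := G) hab).range : Set ℂˣ) = 2
    rw [hset, Nat.card_coe_set_eq, Set.ncard_pair (fun h => by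
      have := congrArg (fun x : ℂˣ => (x : ℂ)) h
      norm_num at this)]
  rw [← Subgroup.card_mul_index (sgn (G := G) hab).ker, Subgroup.index_ker, hrange, hker,
    Nat.card_congr (Subgroup.subgroupOfEquivOfLe hle).toEquiv, mul_comm]

/-- Counting conjugates in the stabilizer of two points. -/
theorem card_conj_mem (hab : a ≠ b) (g : G) :
    Nat.card {y : G // y⁻¹ * g * y ∈ pt2 (G := G) a b} =
      Nat.card (pt2 (G := G) a b) * (fx α g * (fx α g - 1)) := by
  classical
  let Q := {q : α × α // g • q.1 = q.1 ∧ g • q.2 = q.2 ∧ q.1 ≠ q.2}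
  have hQ : Nat.card Q = fx α g * (fx α g - 1) := by
    rw [fx, Nat.card_eq_fintype_card, Nat.card_eq_fintype_card, Fintype.card_subtype,
      ← Set.toFinset_card, Nat.mul_sub, mul_one, ← Finset.offDiag_card]
    refine congrArg Finset.card ?_
    ext q
    simp [MulAction.mem_fixedBy, and_assoc]
  have hmem : ∀ y : G, y⁻¹ * g * y ∈ pt2 (G := G) a b ↔ g • y • a = y • a ∧ g • y • b = y • b := by
    intro y
    simp [pt2, mul_smul, inv_smul_eq_iff]
  rw [← hQ, mul_comm, ← Nat.card_prod]
  have hch : ∀ q : Q, ∃ y : G, y • a = q.1.1 ∧ y • b = q.1.2 := fun q =>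
    MulAction.is_two_pretransitive_iff.1 inferInstance hab q.2.2.2
  choose r hr1 hr2 using hch
  let mk : {y : G // y⁻¹ * g * y ∈ pt2 (G := G) a b} → Q := fun y =>
    ⟨(y.1 • a, y.1 • b), ((hmem _).1 y.2).1, ((hmem _).1 y.2).2, fun e => hab (MulAction.injective y.1 e)⟩
  refine Nat.card_congr
    { toFun := fun y => (mk y, ⟨(r (mk y))⁻¹ * y.1, ?_⟩)
      invFun := fun z => ⟨r z.1 * (z.2 : G), ?_⟩
      left_inv := fun y => Subtype.ext (mul_inv_cancel_left _ _)
      right_inv := fun z => ?_ }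
  · simp only [pt2, Subgroup.mem_inf, MulAction.mem_stabilizer_iff, mul_smul, inv_smul_eq_iff]
    exact ⟨(hr1 (mk y)).symm, (hr2 (mk y)).symm⟩
  · rw [hmem]
    have h := z.2.2
    simp only [pt2, Subgroup.mem_inf, MulAction.mem_stabilizer_iff] at h
    rw [mul_smul, mul_smul, h.1, h.2, hr1, hr2]
    exact ⟨z.1.2.1, z.1.2.2.1⟩
  · have h := z.2.2
    simp only [pt2, Subgroup.mem_inf, MulAction.mem_stabilizer_iff] at h
    have e : ∀ h', mk ⟨r z.1 * (z.2 : G), h'⟩ = z.1 := fun h' =>
      Subtype.ext (Prod.ext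
        (show (r z.1 * (z.2 : G)) • a = z.1.1.1 by rw [mul_smul, h.1, hr1])
        (show (r z.1 * (z.2 : G)) • b = z.1.1.2 by rw [mul_smul, h.2, hr2]))
    refine Prod.ext (e _) (Subtype.ext ?_)
    simp only [e, inv_mul_cancel_left]

theorem card_pt2 (hab : a ≠ b) :
    Nat.card G = Nat.card (pt2 (G := G) a b) * (Fintype.card α * (Fintype.card α - 1)) := by
  have h := card_conj_mem (G := G) (α := α) hab 1
  rw [fx_one] at h
  rw [← h]
  exact Nat.card_congr (Equiv.subtypeUnivEquiv fun y => by rw [mul_one, inv_mul_cancel]; exact one_mem _).symm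

end pair

/-- The fixed points of elements, and the divisibility of the order. -/
theorem main [MulAction.IsMultiplyPretransitive G α 2] [FaithfulSMul G α]
    (hα : Fintype.card α = p) (hp5 : 5 ≤ p) (P : Sylow p G) (hP : Nat.card P = p)
    (hC : Subgroup.centralizer ((P : Subgroup G) : Set G) = (P : Subgroup G)) (hq : inIdx P = 2) :
    p * (p - 1) * (p - 2) ∣ Nat.card G ∧ ∀ g : G, 3 ≤ fx α g → g = 1 := by
  classical
  have hp := (Fact.out : p.Prime)
  obtain ⟨M, hM⟩ := exists_pModular hp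
  obtain ⟨X, Y, δ, σ, D⟩ := exists_data hM (by omega) P hP
  have hregone : ¬ p ∣ orderOf (1 : G) := by rw [orderOf_one]; exact hp.not_dvd_one
  obtain ⟨x₀, hx₀, hx₀1⟩ := exists_mem_ne P hP
  obtain ⟨a, b, hab⟩ := Fintype.one_lt_card_iff.1 (show 1 < Fintype.card α by omega)
  haveI : MulAction.IsPretransitive G α := MulAction.isPretransitive_of_is_two_pretransitive
  -- the permutation character minus one
  let χ : IrrCharacter G := ⟨fun g => (fx α g : ℂ) - 1,
    (Cfsg.Agent.S0157.result α (by rw [Nat.card_eq_fintype_card]; omega)).2 inferInstance⟩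
  have hχv : ∀ g, (χ : G → ℂ) g = (fx α g : ℂ) - 1 := fun g => rfl
  have hχ1 : charDegree (χ : G → ℂ) = p - 1 := by
    apply Nat.cast_injective (R := ℂ)
    rw [irr_charDegree_cast, hχv, fx_one, hα, Nat.cast_sub (by omega), Nat.cast_one]
  have hχB : χ ∈ principalBlock M G := by
    by_contra h
    have h1 := (outside hM P hP hC h).2
    rw [hχ1] at h1
    have := Nat.le_of_dvd (by omega) h1
    omega
  have hone : charDegree (oneIrr G : G → ℂ) = 1 := by
    apply Nat.cast_injective (R := ℂ)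
    rw [irr_charDegree_cast, Nat.cast_one]
    rfl
  have hY2 : ∀ η ∈ Y, ∀ d : ℤ, (charDegree (η : G → ℂ) : ℤ) = d →
      (p : ℤ) ∣ d + 2 * σ := by
    intro η hη d hd
    have h1 := D.degY η hη
    rw [hq, hd, Int.modEq_iff_dvd] at h1
    have := h1.neg_right
    push_cast at this
    rwa [show -(-σ * 2 - d) = d + 2 * σ by ring] at this
  have h1X : oneIrr G ∈ X := by
    refine ((D.union _).1 (oneIrr_mem hM)).resolve_right fun h1 => ?_
    have h2 := hY2 _ h1 1 (by rw [hone]; rfl)
    rcases D.hσ with h | h <;> rw [h] at h2 <;> norm_num at h2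
    · have := Int.le_of_dvd (by norm_num) h2; omega
    · exact hp.ne_one (by exact_mod_cast Int.eq_one_of_dvd_one (by omega) h2)
  have hχX : χ ∈ X := by
    refine ((D.union χ).1 hχB).resolve_right fun h1 => ?_
    have h2 := hY2 _ h1 ((p : ℤ) - 1) (by rw [hχ1]; omega)
    rw [show (p : ℤ) - 1 + 2 * σ = p + (2 * σ - 1) by ring, dvd_add_right dvd_rfl] at h2
    rcases D.hσ with h | h <;> rw [h] at h2 <;> norm_num at h2
    · exact hp.ne_one (by exact_mod_cast Int.eq_one_of_dvd_one (by omega) h2)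
    · have := Int.le_of_dvd (by norm_num) h2; omega
  have hne : χ ≠ oneIrr G := fun h => by rw [h, hone] at hχ1; omega
  have hXeq : X = {oneIrr G, χ} := by
    refine (Finset.eq_of_subset_of_card_le (by simp [Finset.insert_subset_iff, h1X, hχX]) ?_).symm
    rw [D.cardX, hq, Finset.card_pair hne.symm]
  have hδ1 : δ (oneIrr G) = 1 := by
    have h := D.valX _ h1X x₀ hx₀ hx₀1
    have h' : ((δ (oneIrr G) : ℤ) : ℂ) = ((1 : ℤ) : ℂ) := by rw [← h, Int.cast_one]; rfl
    exact_mod_cast h'
  have hδχ : δ χ = -1 := by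
    have h := D.valX _ hχX x₀ hx₀ hx₀1
    rw [hχv, fx_eq_zero_of_orderOf hα (orderOf_mem P hP hx₀ hx₀1)] at h
    have h' : ((δ χ : ℤ) : ℂ) = ((-1 : ℤ) : ℂ) := by rw [← h]; norm_num
    exact_mod_cast h'
  obtain ⟨η₀, hη₀⟩ : Y.Nonempty := Finset.card_pos.1 (by
    rcases Nat.eq_zero_or_pos Y.card with h | h
    · have := D.cardY; rw [h, zero_mul] at this; omega
    · exact h)
  have hrel : ∀ η ∈ Y, ∀ g : G, ¬ p ∣ orderOf g →
      1 - (χ : G → ℂ) g + (σ : ℂ) * (η : G → ℂ) g = 0 := by
    intro η hη g hg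
    have h := D.relation η hη g hg
    rw [hXeq, Finset.sum_pair hne.symm, hδ1, hδχ,
      show (oneIrr G : G → ℂ) g = 1 from rfl] at h
    push_cast at h
    linear_combination h
  have hσ : σ = 1 := by
    refine D.hσ.resolve_right fun h => ?_
    have h1 := hrel η₀ hη₀ 1 hregone
    rw [h, hχv, fx_one, hα, ← irr_charDegree_cast] at h1
    push_cast at h1
    have h2 : ((p + charDegree (η₀ : G → ℂ) : ℕ) : ℂ) = ((2 : ℕ) : ℂ) := by
      push_cast; linear_combination -h1
    rw [Nat.cast_inj] at h2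
    omega
  subst hσ
  have hηreg : ∀ η ∈ Y, ∀ g : G, ¬ p ∣ orderOf g → (η : G → ℂ) g = (fx α g : ℂ) - 2 := by
    intro η hη g hg
    have h := hrel η hη g hg
    rw [hχv, Int.cast_one] at h
    linear_combination h
  have hη1 : ∀ η ∈ Y, (η : G → ℂ) 1 = (p : ℂ) - 2 := fun η hη => by
    rw [hηreg η hη 1 hregone, fx_one, hα]
  -- the induced character of the sign
  set S := pt2 (G := G) a b with hS
  set W := swp (G := G) a b with hW
  haveI : Fintype W := Fintype.ofFinite _
  let lam : W → ℂ := fun w => ((sgn hab w : ℂˣ) : ℂ)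
  have hlam : IsIrrCharacter W lam := isIrrCharacter_linear (sgn hab)
  set Ψ := indFun W lam with hΨ
  have hΨc : IsCharacter G Ψ := isCharacter_indFun W (isCharacter_of_irr hlam)
  choose m hm using fun μ : IrrCharacter G => classInner_char_nat hΨc (isCharacter_of_irr μ.2)
  have hSpos : 0 < Nat.card S := Nat.card_pos
  have hWc : Nat.card W = 2 * Nat.card S := card_swp hab
  have hG : Nat.card G = Nat.card S * (p * (p - 1)) := by rw [card_pt2 hab, hα]
  have hΨ1 : Ψ 1 = ((p * (p - 1) : ℕ) : ℂ) / 2 := by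
    rw [hΨ, indFun_apply_one, show lam 1 = 1 by simp [lam], mul_one]
    rw [eq_div_iff two_ne_zero]
    have h := W.card_mul_index
    rw [hWc, hG, mul_assoc] at h
    have h2 : 2 * W.index = p * (p - 1) := Nat.eq_of_mul_eq_mul_left hSpos (by linarith)
    rw [← h2]; push_cast; ring
  have hWp : ∀ w ∈ W, ¬ p ∣ orderOf w := by
    intro w hw hd
    have h0 := fx_eq_zero (α := α) hα hd
    have h1 : p ∣ Nat.card W := hd.trans (by
      exact Subgroup.orderOf_dvd_natCard W hw)
    rw [hWc] at h1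
    rcases hp.dvd_mul.1 h1 with h2 | h2
    · have := Nat.le_of_dvd two_pos h2; omega
    · obtain ⟨⟨z, hz⟩, hzo⟩ := exists_prime_orderOf_dvd_card' p h2
      rw [← Subgroup.orderOf_coe] at hzo
      have h3 := fx_eq_zero_of_orderOf (α := α) hα hzo
      rw [fx, Nat.card_eq_zero] at h3
      rcases h3 with h3 | h3
      · exact h3.false ⟨a, hz.1⟩
      · exact not_finite (MulAction.fixedBy α z)
  have hΨsing : ∀ g : G, p ∣ orderOf g → Ψ g = 0 := by
    intro g hg
    simp only [hΨ, indFun]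
    rw [Finset.sum_eq_zero fun y _ => ?_, mul_zero]
    refine extendByZero_of_not_mem _ _ fun hy => ?_
    refine hWp _ hy ?_
    rwa [show y⁻¹ * g * y = MulAut.conj y⁻¹ g by simp, MulEquiv.orderOf_eq]
  have hmY : ∀ η ∈ Y, (m η : ℂ) = m η₀ := by
    intro η hη
    rw [← hm, ← hm]
    simp only [classInner]
    refine congrArg _ (Finset.sum_congr rfl fun g _ => ?_)
    by_cases hg : p ∣ orderOf g
    · rw [hΨsing g hg, zero_mul, zero_mul]
    · rw [D.agree η hη η₀ hη₀ g hg]
  have hm1 : m (oneIrr G) = 0 := by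
    have h : (m (oneIrr G) : ℂ) = 0 := by
      rw [← hm, hΨ, frobenius_reciprocity W _ (isClassFunction_irr (oneIrr G).2)]
      refine classInner_irr_ne hlam (isIrrCharacter_one) fun e => ?_
      obtain ⟨s, hs1, hs2⟩ := exists_swap (G := G) hab
      have h2 := congrFun e ⟨s, Or.inr ⟨hs1, hs2⟩⟩
      simp only [lam] at h2
      rcases sgn_val hab (⟨s, Or.inr ⟨hs1, hs2⟩⟩ : W) with ⟨h3, -⟩ | ⟨-, h3⟩
      · exact hab (h3.1.symm.trans hs1)
      · exact absurd (h3.symm.trans h2) (by show ¬ (-1 : ℂ) = 1; norm_num)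
    exact_mod_cast h
  have hmrel : (m η₀ : ℂ) = m χ := by
    have h0 : classInner Ψ (oneIrr G : G → ℂ) - classInner Ψ (χ : G → ℂ) +
        classInner Ψ (η₀ : G → ℂ) = 0 := by
      simp only [classInner, ← mul_sub, ← mul_add, ← Finset.sum_sub_distrib, ← Finset.sum_add_distrib]
      rw [Finset.sum_eq_zero fun g _ => ?_, mul_zero]
      by_cases hg : p ∣ orderOf g
      · simp [hΨsing g hg]
      · have h := congrArg conj (hrel η₀ hη₀ g hg)
        rw [Int.cast_one, one_mul, map_add, map_sub, map_one, map_zero] at h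
        rw [show (oneIrr G : G → ℂ) g = 1 from rfl, map_one, h, mul_zero]
    rw [hm, hm, hm, hm1, Nat.cast_zero] at h0
    linear_combination h0
  have hmχ : m χ ≠ 0 := by
    intro h0
    have h1 := hm χ
    rw [h0, Nat.cast_zero, hΨ, frobenius_reciprocity W _ (isClassFunction_irr χ.2)] at h1
    have h2 : (∑ w : W, lam w * (fx α (w : G) : ℂ)) = 0 := by
      have e : classInner lam (fun w : W => (χ : G → ℂ) w) =
          (Nat.card W : ℂ)⁻¹ * ∑ w : W, lam w * (fx α (w : G) : ℂ) - classInner lam (fun _ => 1) := by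
        simp only [classInner, hχv, ← mul_sub, ← Finset.sum_sub_distrib]
        refine congrArg _ (Finset.sum_congr rfl fun w _ => ?_)
        rw [map_sub, map_natCast, map_one]
      have hne1 : classInner lam (fun _ : W => (1 : ℂ)) = 0 := by
        have h3 := congrArg (fun x : ℕ => (x : ℂ)) hm1
        rw [← hm, hΨ, frobenius_reciprocity W _ (isClassFunction_irr (oneIrr G).2), Nat.cast_zero] at h3
        exact h3
      rw [e, hne1, sub_zero, mul_eq_zero, inv_eq_zero, Nat.cast_eq_zero] at h1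
      exact h1.resolve_left Nat.card_pos.ne'
    have h3 : ∀ c : α, ∃ k : ℕ, (∑ w : W, if (w : G) • c = c then lam w else 0) = k ∧
        (c = a → k ≠ 0) := by
      intro c
      haveI : Fintype (MulAction.stabilizer W c) := Fintype.ofFinite _
      have e : (∑ w : W, if (w : G) • c = c then lam w else 0) =
          ∑ w : MulAction.stabilizer W c,
            ((Units.coeHom ℂ).comp ((sgn hab).comp (MulAction.stabilizer W c).subtype)) w := by
        rw [← Finset.sum_filter]
        refine Finset.sum_subtype _ (fun w => ?_) (fun w => lam w)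
        simp [MulAction.mem_stabilizer_iff, Subgroup.smul_def]
      rw [e, sum_hom_units]
      split_ifs with h4
      · exact ⟨Fintype.card (MulAction.stabilizer W c), rfl, fun _ => Fintype.card_ne_zero⟩
      · refine ⟨0, by simp, fun hc => absurd ?_ h4⟩
        subst hc
        refine MonoidHom.ext fun w => ?_
        show lam w.1 = 1
        rcases sgn_val hab w.1 with ⟨-, h5⟩ | ⟨h5, -⟩
        · exact h5
        · exfalso
          have hwa : ((w.1 : W) : G) • c = c := MulAction.mem_stabilizer_iff.1 w.2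
          rcases (w.1 : W).2 with h6 | h6
          · exact h5 h6
          · exact hab (hwa.symm.trans h6.1)
    choose k hk hka using h3
    have h4 : (∑ w : W, lam w * (fx α (w : G) : ℂ)) = ((∑ c, k c : ℕ) : ℂ) := by
      push_cast
      simp only [← hk]
      rw [Finset.sum_comm]
      refine Finset.sum_congr rfl fun w _ => ?_
      rw [← Finset.sum_filter, Finset.sum_const, nsmul_eq_mul, mul_comm, fx, Nat.card_eq_fintype_card,
        Fintype.card_subtype]
      simp [MulAction.mem_fixedBy]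
    rw [h4, Nat.cast_eq_zero, Finset.sum_eq_zero_iff] at h2
    exact hka a rfl (h2 a (Finset.mem_univ _))
  -- comparing the degrees
  have hmη : ∀ η ∈ Y, m η = m χ := fun η hη => by
    exact_mod_cast (hmY η hη).trans hmrel
  have hχY : χ ∉ Y := Finset.disjoint_left.1 D.disj hχX
  have htc : 2 * Y.card + 1 = p := by
    have := D.cardY
    rw [hq] at this
    omega
  have hdec : ∀ g : G, Ψ g = ∑ μ : IrrCharacter G, (m μ : ℂ) * (μ : G → ℂ) g := fun g => by
    have h1 := congrFun (eq_sum_irr (indFun_isClassFunction W lam)) g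
    rw [Finset.sum_apply] at h1
    simp only [Pi.smul_apply, smul_eq_mul, ← hΨ, hm] at h1
    exact h1
  have hdeg : 2 * ∑ μ : IrrCharacter G, m μ * charDegree (μ : G → ℂ) = p * (p - 1) := by
    have h1 := hdec 1
    rw [hΨ1, div_eq_iff two_ne_zero] at h1
    simp only [← irr_charDegree_cast] at h1
    have h2 : ((p * (p - 1) : ℕ) : ℂ) =
        ((2 * ∑ μ : IrrCharacter G, m μ * charDegree (μ : G → ℂ) : ℕ) : ℂ) := by
      rw [h1]; push_cast; ring
    exact_mod_cast h2.symm
  have hηd : ∀ η ∈ Y, charDegree (η : G → ℂ) = p - 2 := fun η hη => by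
    apply Nat.cast_injective (R := ℂ)
    rw [irr_charDegree_cast, hη1 η hη, Nat.cast_sub (by omega), Nat.cast_two]
  set T := insert χ Y with hT
  have hTsum : ∑ μ ∈ T, m μ * charDegree (μ : G → ℂ) =
      m χ * ((p - 1) + Y.card * (p - 2)) := by
    rw [hT, Finset.sum_insert hχY, hχ1,
      Finset.sum_congr rfl fun η hη => show m η * charDegree (η : G → ℂ) = m χ * (p - 2) by
        rw [hmη η hη, hηd η hη], Finset.sum_const, smul_eq_mul]
    ring
  obtain ⟨t, ht⟩ : ∃ t, Y.card = t := ⟨_, rfl⟩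
  rw [ht] at hTsum htc
  have hval : 2 * ((p - 1) + t * (p - 2)) = p * (p - 1) := by
    subst htc
    obtain ⟨s, rfl⟩ : ∃ s, t = s + 1 := ⟨t - 1, by omega⟩
    simp only [show 2 * (s + 1) + 1 - 1 = 2 * (s + 1) by omega,
      show 2 * (s + 1) + 1 - 2 = 2 * s + 1 by omega]
    ring
  have hsplit := Finset.sum_add_sum_compl T fun μ : IrrCharacter G => m μ * charDegree (μ : G → ℂ)
  rw [hTsum] at hsplit
  rw [← hsplit, ← hval] at hdeg
  have hpos : 0 < (p - 1) + t * (p - 2) := by omega
  have hmχ1 : m χ = 1 := by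
    have h1 : m χ * ((p - 1) + t * (p - 2)) ≤ 1 * ((p - 1) + t * (p - 2)) := by omega
    have := Nat.le_of_mul_le_mul_right h1 hpos
    omega
  rw [hmχ1, one_mul] at hdeg
  have hrest : ∀ μ ∈ Tᶜ, m μ = 0 := by
    intro μ hμ
    have h1 := Finset.sum_eq_zero_iff.1
      (show ∑ μ ∈ Tᶜ, m μ * charDegree (μ : G → ℂ) = 0 by omega) μ hμ
    refine (mul_eq_zero.1 h1).resolve_right fun h => irr_one_ne_zero μ ?_
    rw [← irr_charDegree_cast, h, Nat.cast_zero]
  have hformula : ∀ g : G, ¬ p ∣ orderOf g →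
      2 * Ψ g = 2 * ((fx α g : ℂ) - 1) + ((p : ℂ) - 1) * ((fx α g : ℂ) - 2) := by
    intro g hg
    rw [hdec, ← Finset.sum_add_sum_compl T, Finset.sum_eq_zero (s := Tᶜ) fun μ hμ => by
      rw [hrest μ hμ, Nat.cast_zero, zero_mul], add_zero, hT, Finset.sum_insert hχY, hmχ1,
      Nat.cast_one, one_mul, hχv, Finset.sum_congr rfl fun η hη => show
        (m η : ℂ) * (η : G → ℂ) g = (fx α g : ℂ) - 2 by
          rw [hmη η hη, hmχ1, Nat.cast_one, one_mul, hηreg η hη g hg],
      Finset.sum_const, nsmul_eq_mul, ht]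
    have e : ((2 * t + 1 : ℕ) : ℂ) = (p : ℂ) := by rw [htc]
    push_cast at e
    linear_combination ((fx α g : ℂ) - 2) * e
  have hupper : ∀ g : G, (2 * Ψ g).re ≤ (fx α g : ℝ) * ((fx α g : ℝ) - 1) := by
    intro g
    have hterm : ∀ y : G, (extendByZero W lam (y⁻¹ * g * y)).re ≤
        if y⁻¹ * g * y ∈ S then (1 : ℝ) else 0 := by
      intro y
      by_cases hy : y⁻¹ * g * y ∈ W
      · rw [extendByZero_of_mem _ _ hy]
        rcases sgn_val hab (⟨_, hy⟩ : W) with ⟨h1, h2⟩ | ⟨h1, h2⟩
        · simp [lam, h2, h1, hS]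
        · simp [lam, h2, h1, hS]
      · rw [extendByZero_of_not_mem _ _ hy]
        split_ifs <;> simp
    have h1 : (∑ y : G, extendByZero W lam (y⁻¹ * g * y)).re ≤
        ((Nat.card S * (fx α g * (fx α g - 1)) : ℕ) : ℝ) := by
      rw [Complex.re_sum, ← card_conj_mem hab g, Nat.card_eq_fintype_card, Fintype.card_subtype,
        ← Finset.sum_boole]
      exact Finset.sum_le_sum fun y _ => hterm y
    have h2 : (fx α g : ℝ) * ((fx α g : ℝ) - 1) = ((fx α g * (fx α g - 1) : ℕ) : ℝ) := by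
      rcases Nat.eq_zero_or_pos (fx α g) with h | h
      · simp [h]
      · push_cast [Nat.cast_sub h]; ring
    rw [h2, hΨ]
    simp only [indFun, hWc]
    rw [← mul_assoc, show (2 : ℂ) * ((2 * Nat.card S : ℕ) : ℂ)⁻¹ = (((Nat.card S : ℝ)⁻¹ : ℝ) : ℂ) by
      push_cast; field_simp, Complex.re_ofReal_mul, inv_mul_le_iff₀ (Nat.cast_pos.2 hSpos)]
    push_cast at h1 ⊢
    linarith
  refine ⟨?_, fun g hg => ?_⟩
  · have h1 : p - 2 ∣ Nat.card G := hηd η₀ hη₀ ▸ charDegree_dvd_card η₀
    have hcop : Nat.Coprime (p * (p - 1)) (p - 2) := by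
      refine Nat.Coprime.mul_left (hp.coprime_iff_not_dvd.2 fun h => ?_) ?_
      · have := Nat.le_of_dvd (by omega) h; omega
      · rw [show p - 1 = (p - 2) + 1 by omega]
        exact (Nat.coprime_self_add_left.2 (Nat.coprime_one_left _))
    exact hcop.mul_dvd_of_dvd_of_dvd (hG ▸ dvd_mul_left _ _) h1
  · refine eq_one_of_fx_ge (α := α) ?_
    rw [hα]
    have hreg : ¬ p ∣ orderOf g := fun h => by rw [fx_eq_zero hα h] at hg; omega
    have h1 := hupper g
    rw [hformula g hreg] at h1
    simp only [Complex.add_re, Complex.mul_re, Complex.sub_re, Complex.sub_im, Complex.natCast_re,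
      Complex.natCast_im, Complex.one_re, Complex.one_im, Complex.re_ofNat, Complex.im_ofNat] at h1
    have h3 : (3 : ℝ) ≤ (fx α g : ℝ) := by exact_mod_cast hg
    have h4 : (p : ℝ) ≤ (fx α g : ℝ) := by nlinarith
    exact_mod_cast h4

end CfsgLib.SmallSylow.DegreeP
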