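import Cfsg.Agent.Lib.SmallSylow.Degrees
import Cfsg.Agent.Lib.CharTheory.PermChar
import Mathlib.GroupTheory.SchurZassenhaus

/-!
# The normalizer of a self-centralizing Sylow subgroup of prime order, and its action on the cosets
-/

namespace CfsgLib.SmallSylow

open Cfsg CfsgLib.Blocks CfsgLib.CharTheory CfsgLib.CharTheory.SmallDegree
open scoped ComplexConjugate

set_option linter.unusedVariables false
set_option linter.style.haveILetI false
set_option linter.unusedSectionVars false

universe u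

variable {G : Type u} [Group G] [Fintype G] {p : ℕ} [Fact p.Prime]

/-- The normalizer of `P`. -/
abbrev nrm (P : Sylow p G) : Subgroup G := Subgroup.normalizer ((P : Subgroup G) : Set G)

/-- The normalizer is `P` extended by a cyclic complement acting without fixed points. -/
structure Local (P : Sylow p G) (H : Subgroup G) : Prop where
  le : H ≤ nrm P
  card : Nat.card H = inIdx P
  inter : ∀ g ∈ H, g ∈ (P : Subgroup G) → g = 1
  cyclic : IsCyclic H
  fpf : ∀ h ∈ H, h ≠ 1 → ∀ x ∈ (P : Subgroup G), x * h = h * x → x = 1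
  split : ∀ g ∈ nrm P, ∃ x ∈ (P : Subgroup G), ∃ h ∈ H, g = x * h
  selfC : Subgroup.centralizer ((P : Subgroup G) : Set G) = (P : Subgroup G)

theorem exists_local (P : Sylow p G) (hP : Nat.card P = p)
    (hC : Subgroup.centralizer ((P : Subgroup G) : Set G) = (P : Subgroup G)) :
    ∃ H, Local P H := by
  classical
  have hp := (Fact.out : p.Prime)
  set N := nrm P
  set P' := (P : Subgroup G).subgroupOf N with hP'
  haveI : P'.Normal := Subgroup.normal_in_normalizer
  have hidx : P'.index = inIdx P := by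
    rw [inIdx, hC]; rfl
  have hcardP' : Nat.card P' = p :=
    (Nat.card_congr (Subgroup.subgroupOfEquivOfLe Subgroup.le_normalizer).toEquiv).trans hP
  have hcop : Nat.Coprime (Nat.card P') P'.index := by
    rw [hcardP', hp.coprime_iff_not_dvd]
    intro hd
    refine P.not_dvd_index (hd.trans ?_)
    show ((P : Subgroup G).relIndex N) ∣ (P : Subgroup G).index
    exact Dvd.intro _ (Subgroup.relIndex_mul_index Subgroup.le_normalizer)
  obtain ⟨H', hH'⟩ := Subgroup.exists_right_complement'_of_coprime hcop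
  set H := H'.map N.subtype with hH
  have hmul := hH'.card_mul_card
  have hcardH : Nat.card H = inIdx P := by
    rw [hH, Nat.card_congr (H'.equivMapOfInjective N.subtype N.subtype_injective).toEquiv.symm]
    have h1 := P'.card_mul_index
    rw [← hmul, hcardP'] at h1
    rw [← hidx]
    exact (Nat.eq_of_mul_eq_mul_left hp.pos h1).symm
  have hle : H ≤ N := Subgroup.map_subtype_le _
  have hinter : ∀ g ∈ H, g ∈ (P : Subgroup G) → g = 1 := by
    rintro g ⟨g', hg', rfl⟩ hgP
    have h1 : g' ∈ P' ⊓ H' := ⟨Subgroup.mem_subgroupOf.2 hgP, hg'⟩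
    rw [hH'.disjoint.eq_bot, Subgroup.mem_bot] at h1
    rw [h1, map_one]
  have hfpf : ∀ h ∈ H, h ≠ 1 → ∀ x ∈ (P : Subgroup G), x * h = h * x → x = 1 := by
    intro h hh hh1 x hx hcomm
    by_contra hx1
    refine hh1 (hinter h hh ?_)
    rw [← hC, ← centralizer_eq P hP hx hx1, Subgroup.mem_centralizer_singleton_iff]
    exact hcomm.symm
  refine ⟨H, hle, hcardH, hinter, ?_, hfpf, fun g hg => ?_, hC⟩
  · haveI := DefectOne.isCyclic_mulAut (DefectOne.setup_sylow P hP) hP
    let φ : H →* MulAut (P : Subgroup G) :=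
      (P : Subgroup G).normalizerMonoidHom.comp (Subgroup.inclusion hle)
    refine isCyclic_of_injective φ ((injective_iff_map_eq_one φ).2 fun a ha => ?_)
    have h1 : Subgroup.inclusion hle a ∈ (P : Subgroup G).normalizerMonoidHom.ker := ha
    rw [Subgroup.normalizerMonoidHom_ker, Subgroup.mem_subgroupOf, hC] at h1
    exact Subtype.ext (hinter a a.2 h1)
  · obtain ⟨⟨x, h⟩, e⟩ := hH'.surjective ⟨g, hg⟩
    exact ⟨(x.1 : G), Subgroup.mem_subgroupOf.1 x.2, (h.1 : G), ⟨h.1, h.2, rfl⟩,
      (congrArg Subtype.val e).symm⟩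

variable {P : Sylow p G} {H : Subgroup G}

theorem Local.comm (L : Local P H) {a b : G} (ha : a ∈ H) (hb : b ∈ H) : a * b = b * a := by
  haveI := L.cyclic
  letI := IsCyclic.commGroup (α := H)
  exact congrArg Subtype.val (mul_comm (⟨a, ha⟩ : H) ⟨b, hb⟩)

/-- Conjugation by `P` sweeps the coset `h P`. -/
theorem Local.exists_conj (L : Local P H) {h : G} (hh : h ∈ H) (hh1 : h ≠ 1) {x : G}
    (hx : x ∈ (P : Subgroup G)) : ∃ y ∈ (P : Subgroup G), y * h * y⁻¹ = x * h := by
  classical
  let f : ↥(P : Subgroup G) → ↥(P : Subgroup G) := fun y => ⟨(y : G) * h * (y : G)⁻¹ * h⁻¹, by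
    rw [show (y : G) * h * (y : G)⁻¹ * h⁻¹ = (y : G) * (h * (y : G)⁻¹ * h⁻¹) by group]
    exact mul_mem y.2 ((Subgroup.mem_normalizer_iff.1 (L.le hh) _).1 (inv_mem y.2))⟩
  have hf : Function.Injective f := by
    intro a b e
    have e1 : (a : G) * h * (a : G)⁻¹ * h⁻¹ = (b : G) * h * (b : G)⁻¹ * h⁻¹ := congrArg Subtype.val e
    rw [mul_left_inj] at e1
    have e2 : ((b : G)⁻¹ * a) * h = h * ((b : G)⁻¹ * a) := by
      calc (b : G)⁻¹ * a * h = (b : G)⁻¹ * ((a : G) * h * (a : G)⁻¹) * a := by group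
        _ = (b : G)⁻¹ * ((b : G) * h * (b : G)⁻¹) * a := by rw [e1]
        _ = h * ((b : G)⁻¹ * a) := by group
    have := L.fpf h hh hh1 _ (mul_mem (inv_mem b.2) a.2) e2
    exact Subtype.ext (inv_mul_eq_one.1 this).symm
  obtain ⟨y, hy⟩ := (Finite.injective_iff_surjective.1 hf) ⟨x, hx⟩
  refine ⟨y, y.2, ?_⟩
  have e := congrArg Subtype.val hy
  have e' : (y : G) * h * (y : G)⁻¹ * h⁻¹ = x := e
  rw [← e', inv_mul_cancel_right]

/-- A character is constant on the cosets `h P`. -/
theorem Local.value_coset (L : Local P H) (χ : IrrCharacter G) {h : G} (hh : h ∈ H) (hh1 : h ≠ 1)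
    {x : G} (hx : x ∈ (P : Subgroup G)) : (χ : G → ℂ) (x * h) = (χ : G → ℂ) h := by
  obtain ⟨y, hy, e⟩ := L.exists_conj hh hh1 hx
  rw [← e, isClassFunction_irr χ.2]

/-- An element of `N` commuting with a nontrivial element of `H` lies in `H`. -/
theorem Local.mem_of_commute (L : Local P H) {h : G} (hh : h ∈ H) (hh1 : h ≠ 1) {g : G}
    (hg : g ∈ nrm P) (hcomm : g * h = h * g) : g ∈ H := by
  obtain ⟨x, hx, k, hk, rfl⟩ := L.split g hg
  have e : x * h = h * x := by
    have e1 : x * (h * k) = h * (x * k) := by rw [← L.comm hk hh, ← mul_assoc]; exact hcomm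
    calc x * h = x * (h * k) * k⁻¹ := by group
      _ = h * (x * k) * k⁻¹ := by rw [e1]
      _ = h * x := by group
  rw [L.fpf h hh hh1 x hx e, one_mul]
  exact hk

/-- A cyclic subgroup of `N` of the order of `H` is a `P`-conjugate of it. -/
theorem Local.conj_compl (L : Local P H) (hq : 2 ≤ inIdx P) (hP : Nat.card P = p) {c : G}
    (hc : ∀ h ∈ H, c⁻¹ * h * c ∈ nrm P) :
    ∃ x ∈ (P : Subgroup G), ∀ h ∈ H, x⁻¹ * c⁻¹ * h * c * x ∈ H := by
  classical
  haveI := L.cyclic
  obtain ⟨⟨g, hg⟩, hgen⟩ := IsCyclic.exists_generator (α := H)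
  have hqp : inIdx P < p := by
    have h := DefectOne.setup_sylow P hP
    haveI := DefectOne.isCyclic_mulAut h hP
    haveI : IsCyclic (P : Subgroup G) := isCyclic_of_prime_card (show Nat.card (P : Subgroup G) = p from hP)
    have h1 : inIdx P ∣ Nat.card (MulAut (P : Subgroup G)) := by
      show ((Subgroup.centralizer ((P : Subgroup G) : Set G)).subgroupOf
        (Subgroup.normalizer ((P : Subgroup G) : Set G))).index ∣ _
      rw [← Subgroup.normalizerMonoidHom_ker, Subgroup.index_ker]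
      exact Subgroup.card_subgroup_dvd_card _
    rw [IsCyclic.card_mulAut, show Nat.card (P : Subgroup G) = p from hP,
      Nat.totient_prime (Fact.out : p.Prime)] at h1
    have := (Fact.out : p.Prime).two_le
    have := Nat.le_of_dvd (by omega) h1
    omega
  have hg1 : g ≠ 1 := by
    rintro rfl
    have h2 : (⊤ : Subgroup H) = ⊥ := by
      rw [eq_bot_iff]
      intro a _
      obtain ⟨i, rfl⟩ := Subgroup.mem_zpowers_iff.1 (hgen a)
      rw [Subgroup.mem_bot]
      exact (congrArg (· ^ i) (Subtype.ext rfl : (⟨1, hg⟩ : H) = 1)).trans (one_zpow i)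
    have h3 : Nat.card (⊤ : Subgroup H) = 1 := by rw [h2, Subgroup.card_bot]
    rw [Subgroup.card_top, L.card] at h3
    omega
  obtain ⟨x, hx, k, hk, e⟩ := L.split _ (hc g hg)
  have hk1 : k ≠ 1 := by
    rintro rfl
    rw [mul_one] at e
    have h1 : orderOf (c⁻¹ * g * c) = orderOf g :=
      (MulEquiv.orderOf_eq (MulAut.conj c⁻¹) g).symm ▸ (congrArg orderOf (by simp))
    have h2 : orderOf g ≤ inIdx P := by
      rw [← L.card]
      exact Nat.le_of_dvd Nat.card_pos (Subgroup.orderOf_dvd_natCard H hg)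
    have hx1 : x ≠ 1 := fun hx1 => hg1 (conj_eq_one_iff.1 (show c⁻¹ * g * c⁻¹⁻¹ = 1 by rw [inv_inv, e, hx1]))
    rw [e, orderOf_mem P hP hx hx1] at h1
    omega
  obtain ⟨y, hy, ey⟩ := L.exists_conj hk hk1 hx
  refine ⟨y, hy, fun h hh => ?_⟩
  obtain ⟨i, hi⟩ := Subgroup.mem_zpowers_iff.1 (hgen ⟨h, hh⟩)
  have hi' : g ^ i = h := congrArg Subtype.val hi
  have e2 : y⁻¹ * c⁻¹ * g * c * y = k := by
    calc y⁻¹ * c⁻¹ * g * c * y = y⁻¹ * (c⁻¹ * g * c) * y := by group
      _ = y⁻¹ * (y * k * y⁻¹) * y := by rw [e, ey]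
      _ = k := by group
  rw [show y⁻¹ * c⁻¹ * h * c * y = (y⁻¹ * c⁻¹ * g * c * y) ^ i by
    rw [← hi', show y⁻¹ * c⁻¹ * g * c * y = MulAut.conj (y⁻¹ * c⁻¹) g by simp [mul_assoc],
      show y⁻¹ * c⁻¹ * g ^ i * c * y = MulAut.conj (y⁻¹ * c⁻¹) (g ^ i) by simp [mul_assoc],
      map_zpow], e2]
  exact zpow_mem hk i

/-- A nontrivial element of `H` fixing exactly as many cosets as `H` has centralizer and normalizer
of order `#H` times that number. -/
theorem Local.card_normalizer (L : Local P H) (hq : 2 ≤ inIdx P) (hP : Nat.card P = p) {m : ℕ}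
    (hm : ∀ h ∈ H, h ≠ 1 → Nat.card {x : G ⧸ nrm P // h • x = x} = m) :
    Nat.card (Subgroup.normalizer (H : Set G)) = inIdx P * m ∧
      ∀ z ∈ H, z ≠ 1 → (∀ g ∈ Subgroup.normalizer (H : Set G), g * z = z * g) →
        Subgroup.centralizer ({z} : Set G) = Subgroup.normalizer (H : Set G) := by
  classical
  set Ω := G ⧸ nrm P
  set o : Ω := ((1 : G) : Ω)
  obtain ⟨h₀, hh₀, hh₀1⟩ : ∃ h ∈ H, h ≠ 1 := by
    by_contra hno
    push Not at hno
    have h1 : H = ⊥ := (Subgroup.eq_bot_iff_forall _).2 hno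
    have h2 := L.card
    rw [h1, Subgroup.card_bot] at h2
    omega
  haveI := L.cyclic
  obtain ⟨⟨gen, hgen⟩, hgenp⟩ := IsCyclic.exists_generator (α := H)
  -- the fixed points of a generator are those of `H`
  have hfixH : ∀ x : Ω, gen • x = x → ∀ h ∈ H, h • x = x := by
    intro x hx h hh
    obtain ⟨i, hi⟩ := Subgroup.mem_zpowers_iff.1 (hgenp ⟨h, hh⟩)
    have hi' : gen ^ i = h := congrArg Subtype.val hi
    have : h ∈ MulAction.stabilizer G x := hi' ▸ zpow_mem (show gen ∈ MulAction.stabilizer G x from hx) i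
    exact this
  have hgen1 : gen ≠ 1 := by
    rintro rfl
    obtain ⟨i, hi⟩ := Subgroup.mem_zpowers_iff.1 (hgenp ⟨h₀, hh₀⟩)
    exact hh₀1 ((congrArg Subtype.val hi).symm.trans (one_zpow i))
  let F : Set Ω := {x | ∀ h ∈ H, h • x = x}
  have hFeq : ∀ h ∈ H, h ≠ 1 → {x : Ω | h • x = x} = F := by
    intro h hh hh1
    refine (Set.eq_of_subset_of_ncard_le (s := F) (t := {x : Ω | h • x = x}) (fun x hx => hx h hh) ?_).symm
    rw [← Nat.card_coe_set_eq, ← Nat.card_coe_set_eq]
    have e : F = {x : Ω | gen • x = x} :=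
      Set.ext fun x => ⟨fun hx => hx gen hgen, fun hx => hfixH x hx⟩
    rw [e]
    exact le_of_eq ((hm h hh hh1).trans (hm gen hgen hgen1).symm)
  have hFcard : Nat.card F = m := by
    rw [← hFeq h₀ hh₀ hh₀1]
    exact hm h₀ hh₀ hh₀1
  have hoF : o ∈ F := fun h hh => by
    show ((h * 1 : G) : Ω) = _
    rw [mul_one]
    exact QuotientGroup.eq.2 (by simpa using L.le hh)
  have hstab : MulAction.stabilizer G o = nrm P := MulAction.stabilizer_quotient (nrm P)
  -- the normalizer of `H` is transitive on `F`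
  have htrans : ∀ x ∈ F, ∃ n ∈ Subgroup.normalizer (H : Set G), n • o = x := by
    intro x hx
    obtain ⟨c, rfl⟩ := QuotientGroup.mk_surjective x
    have hc : ∀ h ∈ H, c⁻¹ * h * c ∈ nrm P := fun h hh => (fix_mk_iff _ h c).1 (hx h hh)
    obtain ⟨y, hy, hyH⟩ := L.conj_compl hq hP hc
    refine ⟨c * y, ?_, ?_⟩
    · have hsub : ∀ h ∈ H, (c * y)⁻¹ * h * (c * y) ∈ H := fun h hh => by
        have := hyH h hh
        rwa [show (c * y)⁻¹ * h * (c * y) = y⁻¹ * c⁻¹ * h * c * y by group]
      rw [Subgroup.mem_normalizer_iff]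
      intro h
      let f : H → H := fun a => ⟨(c * y)⁻¹ * a * (c * y), hsub a a.2⟩
      have hf : Function.Injective f := fun a b e => Subtype.ext (by
        have := congrArg Subtype.val e
        simpa [f] using this)
      constructor
      · intro hh
        obtain ⟨a, ha⟩ := (Finite.injective_iff_surjective.1 hf) ⟨h, hh⟩
        have e : (c * y)⁻¹ * (a : G) * (c * y) = h := congrArg Subtype.val ha
        rw [← e]
        convert a.2 using 1
        group
      · intro hh
        have := hsub _ hh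
        convert this using 1
        group
    · show ((c * y * 1 : G) : Ω) = _
      rw [mul_one]
      exact QuotientGroup.eq.2 (by
        have := inv_mem (Subgroup.le_normalizer (H := (P : Subgroup G)) hy)
        rw [show (c * y)⁻¹ * c = y⁻¹ by group]
        exact this)
  have hmaps : ∀ (K : Subgroup G), H ≤ K → (∀ g ∈ K, g • o ∈ F) →
      (∀ g ∈ K, g ∈ nrm P → g ∈ H) → (∀ x ∈ F, ∃ n ∈ K, n • o = x) →
      Nat.card K = inIdx P * m := by
    intro K hHK hKF hKN hKt
    have h1 := Nat.card_congr (MulAction.orbitProdStabilizerEquivGroup K o)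
    have horb : MulAction.orbit K o = F := by
      ext x
      constructor
      · rintro ⟨g, rfl⟩; exact hKF g g.2
      · intro hx
        obtain ⟨n, hn, e⟩ := hKt x hx
        exact ⟨⟨n, hn⟩, e⟩
    have hst : Nat.card (MulAction.stabilizer K o) = inIdx P := by
      rw [← L.card]
      refine Nat.card_congr
        { toFun := fun g => ⟨((g : K) : G), hKN _ (g : K).2
            (le_of_eq hstab (MulAction.mem_stabilizer_iff.2 (g.2 : ((g : K) : G) • o = o)))⟩
          invFun := fun h => ⟨⟨h, hHK h.2⟩,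
            (show (h : G) • o = o from MulAction.mem_stabilizer_iff.1 (by rw [hstab]; exact L.le h.2))⟩
          left_inv := fun g => rfl
          right_inv := fun h => rfl }
    rw [← h1, Nat.card_prod, horb, hFcard, hst, mul_comm]
  have hN : Nat.card (Subgroup.normalizer (H : Set G)) = inIdx P * m := by
    refine hmaps _ Subgroup.le_normalizer (fun g hg h hh => ?_) (fun g hg hgN => ?_) htrans
    · have : g⁻¹ * h * g ∈ H := by
        have := (Subgroup.mem_normalizer_iff.1 (inv_mem hg) h).1 hh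
        rwa [inv_inv] at this
      show ((h * (g * 1) : G) : Ω) = ((g * 1 : G) : Ω)
      refine QuotientGroup.eq.2 ?_
      have := inv_mem (L.le this)
      convert this using 1
      group
    · obtain ⟨x, hx, k, hk, rfl⟩ := L.split g hgN
      have hxn : x ∈ Subgroup.normalizer (H : Set G) := by
        have := mul_mem hg (inv_mem (Subgroup.le_normalizer hk))
        simpa using this
      have e1 : x * h₀ * x⁻¹ * h₀⁻¹ ∈ H :=
        mul_mem ((Subgroup.mem_normalizer_iff.1 hxn h₀).1 hh₀) (inv_mem hh₀)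
      have e2 : x * h₀ * x⁻¹ * h₀⁻¹ ∈ (P : Subgroup G) := by
        rw [show x * h₀ * x⁻¹ * h₀⁻¹ = x * (h₀ * x⁻¹ * h₀⁻¹) by group]
        exact mul_mem hx ((Subgroup.mem_normalizer_iff.1 (L.le hh₀) _).1 (inv_mem hx))
      have e3 := mul_inv_eq_one.1 (L.inter _ e1 e2)
      rw [mul_inv_eq_iff_eq_mul] at e3
      rw [L.fpf h₀ hh₀ hh₀1 x hx e3, one_mul]
      exact hk
  refine ⟨hN, fun z hz hz1 hcen => ?_⟩
  have hle : Subgroup.normalizer (H : Set G) ≤ Subgroup.centralizer ({z} : Set G) := fun g hg => by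
    rw [Subgroup.mem_centralizer_singleton_iff]; exact hcen g hg
  refine (Subgroup.eq_of_le_of_card_ge hle ?_).symm
  rw [hN]
  refine le_of_eq (hmaps _ (Subgroup.le_normalizer.trans hle) (fun g hg => ?_) (fun g hg hgN => ?_)
    fun x hx => ?_)
  · rw [Subgroup.mem_centralizer_singleton_iff] at hg
    rw [← hFeq z hz hz1]
    show z • g • o = g • o
    rw [← mul_smul, ← hg, mul_smul, hoF z hz]
  · exact L.mem_of_commute hz hz1 hgN (Subgroup.mem_centralizer_singleton_iff.1 hg)
  · obtain ⟨n, hn, e⟩ := htrans x hx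
    exact ⟨n, hle hn, e⟩

end CfsgLib.SmallSylow
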