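import Cfsg.Agent.Lib.SmallSylow.Structure
import Cfsg.Agent.S4702

/-!
# Brauer's theorem on groups with few Sylow subgroups of prime order
-/

namespace CfsgLib.SmallSylow

open Cfsg CfsgLib.Blocks CfsgLib.CharTheory

set_option linter.unusedVariables false
set_option linter.style.haveILetI false
set_option linter.unusedSectionVars false

universe u

variable {G : Type u} [Group G] [Fintype G] {p : ℕ} [Fact p.Prime]

theorem sl_of_twoCase (hp5 : 5 ≤ p) (hcore : ∀ K : Subgroup G, K.Normal → ¬ p ∣ Nat.card K → K = ⊥)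
    (h : TwoCase G p) :
    ∃ (m : ℕ) (F : Type) (_ : Field F) (_ : Fintype F), Fintype.card F = 2 ^ m ∧ p = 2 ^ m + 1 ∧
      Nonempty (G ≃* Matrix.SpecialLinearGroup (Fin 2) F) := by
  classical
  have hp := (Fact.out : p.Prime)
  obtain ⟨z, hzo, hCcard, hall, hG⟩ := h
  set C := Subgroup.centralizer ({z} : Set G) with hC
  have hpodd : Odd p := hp.odd_of_ne_two (by omega)
  have hpg : IsPGroup 2 C := fun a => ⟨1, Subtype.ext (by
    rcases eq_or_ne (a : G) 1 with h | h
    · simp [h]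
    · simp [sq, (hall a a.2 h).1])⟩
  have hidx : C.index = p * (p - 2) := by
    have h1 := C.card_mul_index
    rw [hCcard, hG, show p * (p - 1) * (p - 2) = (p - 1) * (p * (p - 2)) by ring] at h1
    exact Nat.eq_of_mul_eq_mul_left (by omega) h1
  have hnd : ¬ 2 ∣ C.index := by
    rw [hidx, ← even_iff_two_dvd, Nat.not_even_iff_odd, Nat.odd_mul]
    obtain ⟨k, hk⟩ := hpodd
    exact ⟨⟨k, hk⟩, k - 1, by omega⟩
  haveI : Fact (Nat.Prime 2) := ⟨Nat.prime_two⟩
  set S : Sylow 2 G := hpg.toSylow hnd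
  have hS : (S : Subgroup G) = C := rfl
  have hzz : z * z = 1 := by rw [← sq, ← hzo, pow_orderOf_eq_one]
  have hz1 : z ≠ 1 := fun e => by rw [e, orderOf_one] at hzo; omega
  have hcommC : ∀ a ∈ C, ∀ b ∈ C, a * b = b * a := by
    intro a ha b hb
    have h2 : ∀ c ∈ C, c⁻¹ = c := fun c hc => by
      rcases eq_or_ne c 1 with rfl | h
      · exact inv_one
      · exact inv_eq_of_mul_eq_one_right (hall c hc h).1
    calc a * b = (a * b)⁻¹ := (h2 _ (mul_mem ha hb)).symm
      _ = b * a := by rw [mul_inv_rev, h2 a ha, h2 b hb]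
  have hzC : z ∈ C := by rw [hC, Subgroup.mem_centralizer_singleton_iff]
  -- centralizers of involutions in `C`
  have hconjC : ∀ g : G, ∀ a : G, a ∈ C ↔ g * a * g⁻¹ ∈ Subgroup.centralizer ({g * z * g⁻¹} : Set G) := by
    intro g a
    rw [hC, Subgroup.mem_centralizer_singleton_iff, Subgroup.mem_centralizer_singleton_iff]
    constructor
    · intro h
      rw [show g * a * g⁻¹ * (g * z * g⁻¹) = g * (a * z) * g⁻¹ by group, h]
      group
    · intro h
      calc a * z = g⁻¹ * (g * a * g⁻¹ * (g * z * g⁻¹)) * g := by group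
        _ = g⁻¹ * (g * z * g⁻¹ * (g * a * g⁻¹)) * g := by rw [h]
        _ = z * a := by group
  have hcen : ∀ y ∈ C, y ≠ 1 → Subgroup.centralizer ({y} : Set G) = C := by
    intro y hy hy1
    obtain ⟨g, rfl⟩ := isConj_iff.1 (hall y hy hy1).2
    refine (Subgroup.eq_of_le_of_card_ge (fun c hc => ?_) ?_).symm
    · rw [Subgroup.mem_centralizer_singleton_iff]; exact hcommC c hc _ hy
    · refine le_of_eq (Nat.card_congr ?_).symm
      exact (MulAut.conj g).toEquiv.subtypeEquiv fun a => hconjC g a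
  -- the normalizer of `C`
  set N := Subgroup.normalizer (C : Set G) with hN
  have hNcard : Nat.card N = (p - 2) * (p - 1) := by
    let f : N → {y : C // (y : G) ≠ 1} := fun g =>
      ⟨⟨g * z * (g : G)⁻¹, (Subgroup.mem_normalizer_iff.1 g.2 z).1 hzC⟩,
        fun e => hz1 (conj_eq_one_iff.1 e)⟩
    have hfib : ∀ y, Nat.card {g : N // f g = y} = p - 1 := by
      intro y
      obtain ⟨g₀, hg₀⟩ := isConj_iff.1 (hall _ y.1.2 y.2).2
      have hg₀N : g₀ ∈ N := by
        rw [hN, Subgroup.mem_normalizer_iff]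
        intro a
        rw [hconjC g₀ a, hg₀, hcen _ y.1.2 y.2]
      rw [← hCcard]
      refine Nat.card_congr
        { toFun := fun g => ⟨g₀⁻¹ * (g.1 : G), ?_⟩
          invFun := fun c => ⟨⟨g₀ * c, mul_mem hg₀N (Subgroup.le_normalizer c.2)⟩, ?_⟩
          left_inv := fun g => Subtype.ext (Subtype.ext (mul_inv_cancel_left _ _))
          right_inv := fun c => Subtype.ext (inv_mul_cancel_left _ _) }
      · have e : (g.1 : G) * z * (g.1 : G)⁻¹ = g₀ * z * g₀⁻¹ :=
          (congrArg (fun w : {y : C // (y : G) ≠ 1} => ((w.1 : C) : G)) g.2).trans hg₀.symm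
        refine Subgroup.mem_centralizer_singleton_iff.2 ?_
        calc g₀⁻¹ * (g.1 : G) * z = g₀⁻¹ * ((g.1 : G) * z * (g.1 : G)⁻¹) * g.1 := by group
          _ = g₀⁻¹ * (g₀ * z * g₀⁻¹) * g.1 := by rw [e]
          _ = z * (g₀⁻¹ * g.1) := by group
      · refine Subtype.ext (Subtype.ext ?_)
        show g₀ * c * z * (g₀ * c)⁻¹ = _
        rw [← hg₀, show g₀ * (c : G) * z * (g₀ * c)⁻¹ = g₀ * ((c : G) * z * (c : G)⁻¹) * g₀⁻¹ by group,
          Subgroup.mem_centralizer_singleton_iff.1 (show (c : G) ∈ Subgroup.centralizer ({z} : Set G) from c.2)]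
        group
    rw [Nat.card_congr (Equiv.sigmaFiberEquiv f).symm, Nat.card_sigma,
      Finset.sum_congr rfl fun y _ => hfib y, Finset.sum_const, Finset.card_univ, smul_eq_mul]
    congr 1
    rw [Fintype.card_subtype_compl, ← Nat.card_eq_fintype_card, hCcard,
      Fintype.card_subtype]
    rw [show (Finset.univ.filter fun y : C => (y : G) = 1) = {1} by
      ext y; simp [OneMemClass.coe_eq_one] , Finset.card_singleton]
    omega
  let Ω := G ⧸ N
  haveI : Fintype Ω := Fintype.ofFinite _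
  have hΩ : Fintype.card Ω = p := by
    rw [← Nat.card_eq_fintype_card, ← Subgroup.index_eq_card]
    have h1 := N.card_mul_index
    rw [hNcard, hG, show p * (p - 1) * (p - 2) = (p - 2) * (p - 1) * p by ring] at h1
    exact Nat.eq_of_mul_eq_mul_left (Nat.mul_pos (by omega) (by omega)) h1
  set o : Ω := ((1 : G) : Ω) with ho
  have hsem : ∀ y ∈ C, y ≠ 1 → ∀ x : Ω, y • x = x → x = o := by
    intro y hy hy1 x hx
    obtain ⟨g, rfl⟩ := QuotientGroup.mk_surjective x
    have h1 : g⁻¹ * y * g ∈ N := (fix_mk_iff N y g).1 hx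
    have h2 : g⁻¹ * y * g ∈ C := by
      have hpy : IsPGroup 2 (Subgroup.zpowers (g⁻¹ * y * g)) := by
        refine IsPGroup.of_card (n := 1) ?_
        rw [Nat.card_zpowers, pow_one, show g⁻¹ * y * g = MulAut.conj g⁻¹ y by simp, MulEquiv.orderOf_eq,
          orderOf_eq_prime (by rw [sq]; exact (hall y hy hy1).1) hy1]
      have h3 : Subgroup.zpowers (g⁻¹ * y * g) ≤ Subgroup.normalizer ((S : Subgroup G) : Set G) := by
        rw [Subgroup.zpowers_le]; exact h1
      have h4 := hpy.to_sup_of_normal_right' S.isPGroup' h3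
      have h5 := S.is_maximal' h4 le_sup_right
      exact h5.le (le_sup_left (a := Subgroup.zpowers (g⁻¹ * y * g)) (Subgroup.mem_zpowers _))
    have h6 : g⁻¹ ∈ N := by
      have e : g⁻¹ * y * g⁻¹⁻¹ ∈ C := by rwa [inv_inv]
      rw [hN, Subgroup.mem_normalizer_iff]
      intro a
      have hy' : g⁻¹ * y * g⁻¹⁻¹ ≠ 1 := fun e' => hy1 (conj_eq_one_iff.1 e')
      conv_lhs => rw [← hcen y hy hy1]
      conv_rhs => rw [← hcen _ e hy']
      rw [Subgroup.mem_centralizer_singleton_iff, Subgroup.mem_centralizer_singleton_iff]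
      constructor
      · intro h
        rw [show g⁻¹ * a * g⁻¹⁻¹ * (g⁻¹ * y * g⁻¹⁻¹) = g⁻¹ * (a * y) * g⁻¹⁻¹ by group, h]
        group
      · intro h
        calc a * y = g * (g⁻¹ * a * g⁻¹⁻¹ * (g⁻¹ * y * g⁻¹⁻¹)) * g⁻¹ := by group
          _ = g * (g⁻¹ * y * g⁻¹⁻¹ * (g⁻¹ * a * g⁻¹⁻¹)) * g⁻¹ := by rw [h]
          _ = y * a := by group
      -- both sides are centralizers in `C`
    exact QuotientGroup.eq.2 (by simpa using h6)
  have hCo : ∀ y ∈ C, y • o = o := fun y hy => by
    rw [ho, fix_mk_iff]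
    simpa using Subgroup.le_normalizer hy
  -- only the identity fixes three points
  have hthree : ∀ g : G, ∀ a b c : Ω, a ≠ b → a ≠ c → b ≠ c →
      g • a = a → g • b = b → g • c = c → g = 1 := by
    intro g a b c hab hac hbc hga hgb hgc
    obtain ⟨k, rfl⟩ := MulAction.exists_smul_eq G o a
    have hfix : ∀ x : Ω, g • x = x → (k⁻¹ * g * k) • (k⁻¹ • x) = k⁻¹ • x := fun x hx => by
      rw [mul_smul, mul_smul, smul_inv_smul, hx]
    set h := k⁻¹ * g * k with hh
    set b' := k⁻¹ • b with hb'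
    have hbo : b' ≠ o := fun e => hab (by rw [← e, hb', smul_inv_smul])
    have hho : h • o = o := by
      have := hfix _ hga
      rwa [inv_smul_smul] at this
    have hhN : h ∈ N := by
      rw [ho, fix_mk_iff] at hho
      simpa using hho
    -- `C` is transitive away from `o`
    let f : C → {x : Ω // x ≠ o} := fun y => ⟨(y : G) • b', fun e => hbo (by
      have h1 : (y : G)⁻¹ • o = o := hCo _ (inv_mem y.2)
      rw [← h1, ← e, inv_smul_smul])⟩
    have hf : Function.Injective f := fun y y' e => by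
      have h1 : (y : G) • b' = (y' : G) • b' := congrArg Subtype.val e
      have h2 : ((y' : G)⁻¹ * y) • b' = b' := by rw [mul_smul, h1, inv_smul_smul]
      by_contra hne
      exact hbo (hsem _ (mul_mem (inv_mem y'.2) y.2)
        (fun e' => hne (Subtype.ext (inv_mul_eq_one.1 e').symm)) _ h2)
    have hfs : Function.Surjective f := by
      refine ((Fintype.bijective_iff_injective_and_card f).2 ⟨hf, ?_⟩).2
      rw [Fintype.card_subtype_compl, Fintype.card_subtype_eq, hΩ, ← Nat.card_eq_fintype_card, hCcard]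
    obtain ⟨⟨y, hy⟩, hyc⟩ := hfs ⟨k⁻¹ • c, fun e => hac (by rw [← e, smul_inv_smul])⟩
    have hyc' : y • b' = k⁻¹ • c := congrArg Subtype.val hyc
    have hy1 : y ≠ 1 := fun e => hbc (by
      rw [e, one_smul, hb'] at hyc'
      exact MulAction.injective k⁻¹ hyc')
    have hhy : h * y * h⁻¹ ∈ C := (Subgroup.mem_normalizer_iff.1 hhN y).1 hy
    have e1 : (h * y * h⁻¹) • b' = y • b' := by
      have hb'' : h • b' = b' := hfix b hgb
      rw [mul_smul, mul_smul, show h⁻¹ • b' = b' from inv_smul_eq_iff.2 hb''.symm, hyc', hfix c hgc]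
    have e2 : h * y * h⁻¹ = y := by
      by_contra hne
      refine hbo (hsem _ (mul_mem (inv_mem hy) hhy) (fun e' => hne (inv_mul_eq_one.1 e').symm) b' ?_)
      rw [mul_smul, e1, inv_smul_smul]
    have hhC : h ∈ C := by
      rw [← hcen y hy hy1, Subgroup.mem_centralizer_singleton_iff]
      exact mul_inv_eq_iff_eq_mul.1 e2
    have hh1 : h = 1 := by
      by_contra hne
      exact hbo (hsem h hhC hne b' (hfix b hgb))
    rw [hh] at hh1
    exact (mul_left_cancel (a := k⁻¹) (mul_right_cancel (b := k) (hh1.trans (by group : (1 : G) = k⁻¹ * 1 * k))))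
  -- transitivity on triples
  have htrip : ∀ e e' : Fin 3 ↪ Ω, ∃ g : G, g • e = e' := by
    intro e
    let F : G → (Fin 3 ↪ Ω) := fun g => g • e
    have hF : Function.Injective F := fun g g' hgg => by
      have h1 : ∀ i, (g'⁻¹ * g) • e i = e i := fun i => by
        have := congrArg (fun w : Fin 3 ↪ Ω => w i) hgg
        have h2 : g • e i = g' • e i := this
        rw [mul_smul, h2, inv_smul_smul]
      exact (inv_mul_eq_one.1 (hthree _ (e 0) (e 1) (e 2) (e.injective.ne (by decide))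
        (e.injective.ne (by decide)) (e.injective.ne (by decide)) (h1 0) (h1 1) (h1 2))).symm
    intro e'
    obtain ⟨g, hg⟩ := ((Fintype.bijective_iff_injective_and_card F).2 ⟨hF, by
      rw [Fintype.card_embedding_eq, hΩ, Fintype.card_fin, ← Nat.card_eq_fintype_card, hG]
      rw [Nat.descFactorial_succ, Nat.descFactorial_succ, Nat.descFactorial_one]
      ring⟩).2 e'
    exact ⟨g, hg⟩
  let φ : G →* Equiv.Perm Ω := MulAction.toPermHom G Ω
  have hcard3 : 3 ≤ Fintype.card Ω := by omega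
  have hφ : Function.Injective φ := by
    rw [← φ.ker_eq_bot_iff, Subgroup.eq_bot_iff_forall]
    intro g hg
    obtain ⟨e⟩ := Function.Embedding.nonempty_of_card_le (α := Fin 3) (β := Ω) (by simpa using hcard3)
    have hg' : ∀ x, g • x = x := fun x => DFunLike.congr_fun (MonoidHom.mem_ker.1 hg) x
    exact hthree g (e 0) (e 1) (e 2) (e.injective.ne (by decide))
        (e.injective.ne (by decide)) (e.injective.ne (by decide)) (hg' _) (hg' _) (hg' _)
  haveI h3 : MulAction.IsMultiplyPretransitive φ.range Ω 3 := by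
    constructor
    intro e e'
    obtain ⟨g, hg⟩ := htrip e e'
    refine ⟨⟨φ g, g, rfl⟩, ?_⟩
    rw [← hg]
    ext i
    rfl
  have hfix : ∀ g : φ.range, 3 ≤ Nat.card (MulAction.fixedBy Ω g) → g = 1 := by
    rintro ⟨_, g, rfl⟩ hg
    rw [Nat.card_eq_fintype_card] at hg
    obtain ⟨e⟩ := Function.Embedding.nonempty_of_card_le (α := Fin 3)
      (β := MulAction.fixedBy Ω (⟨φ g, g, rfl⟩ : φ.range)) (by rw [Fintype.card_fin]; exact hg)
    have h1 : ∀ i, g • (e i : Ω) = (e i : Ω) := fun i => (e i).2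
    have h2 : ∀ i j, i ≠ j → (e i : Ω) ≠ (e j : Ω) := fun i j hij hh => hij (e.injective (Subtype.ext hh))
    exact Subtype.ext (show φ g = 1 by
      rw [hthree g _ _ _ (h2 0 1 (by decide)) (h2 0 2 (by decide)) (h2 1 2 (by decide)) (h1 0) (h1 1) (h1 2),
        map_one])
  obtain ⟨m, hm1, hm, F, hF, hF', hcardF, ⟨iso⟩⟩ :=
    Cfsg.Agent.S4702.result (by omega) (hΩ ▸ hpodd) φ.range h3 hfix
  exact ⟨m, F, hF, hF', hcardF, by rw [← hΩ, hm], ⟨(MonoidHom.ofInjective hφ).trans iso⟩⟩

/-- Brauer's theorem. -/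
theorem brauer_small_sylow_number (hperf : commutator G = ⊤) (P : Sylow p G) (hP : Nat.card P = p)
    {n : ℕ} (hn : Nat.card (Sylow p G) = n * p + 1) (hn1 : 1 ≤ n) (hnF : Arith.NotForm p n)
    (hcore : ∀ K : Subgroup G, K.Normal → ¬ p ∣ Nat.card K → K = ⊥) :
    5 ≤ p ∧ (Nonempty (G ≃* Matrix.ProjectiveSpecialLinearGroup (Fin 2) (ZMod p)) ∨
      ∃ (m : ℕ) (F : Type) (_ : Field F) (_ : Fintype F), Fintype.card F = 2 ^ m ∧ p = 2 ^ m + 1 ∧
        Nonempty (G ≃* Matrix.SpecialLinearGroup (Fin 2) F)) := by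
  have hC := self_centralizing hperf P hP hn hn1 hnF hcore
  obtain ⟨A, Bm, Y, O, σ, f, u, S⟩ := exists_setting hperf P hP hn hn1 hnF hC
  have hp5 : 5 ≤ p := by
    have := S.p_gt
    have := S.hq
    omega
  exact ⟨hp5, (S.structure_thm hP hn hn1 hnF hC hcore).imp_right (sl_of_twoCase hp5 hcore)⟩

end CfsgLib.SmallSylow
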