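import Cfsg.Agent.Lib.SmallSylow.Local
import Cfsg.Agent.Lib.CharTheory.Induced

/-!
# Averaging a character over the Sylow subgroup
-/

namespace CfsgLib.SmallSylow

open Cfsg CfsgLib.Blocks CfsgLib.CharTheory
open scoped ComplexConjugate

set_option linter.unusedVariables false
set_option linter.style.haveILetI false
set_option linter.unusedSectionVars false

universe u

variable {G : Type u} [Group G] [Fintype G] {p : ℕ} [Fact p.Prime] {P : Sylow p G} {H : Subgroup G}
  [Fintype H] [Fintype (P : Subgroup G)]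

/-- The character of `H` on the fixed space of `P`. -/
noncomputable def avg (P : Sylow p G) [Fintype (P : Subgroup G)] (H : Subgroup G)
    (χ : IrrCharacter G) (h : H) : ℂ :=
  (p : ℂ)⁻¹ * ∑ x : (P : Subgroup G), (χ : G → ℂ) ((x : G) * h)

theorem avg_eq (L : Local P H) (hP : Nat.card P = p) (χ : IrrCharacter G) {h : H} (hh : (h : G) ≠ 1) :
    avg P H χ h = (χ : G → ℂ) h := by
  have hp : (p : ℂ) ≠ 0 := Nat.cast_ne_zero.2 (Fact.out : p.Prime).ne_zero
  rw [avg, Finset.sum_congr rfl fun x _ => L.value_coset χ h.2 hh x.2, Finset.sum_const,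
    Finset.card_univ, ← Nat.card_eq_fintype_card, show Nat.card (P : Subgroup G) = p from hP,
    nsmul_eq_mul, inv_mul_cancel_left₀ hp]

theorem avg_one (χ : IrrCharacter G) :
    avg P H χ 1 = (p : ℂ)⁻¹ * ∑ x : (P : Subgroup G), (χ : G → ℂ) x := by
  simp [avg]

theorem Local.split_unique (L : Local P H) {x x' h h' : G} (hx : x ∈ (P : Subgroup G))
    (hx' : x' ∈ (P : Subgroup G)) (hh : h ∈ H) (hh' : h' ∈ H) (e : x * h = x' * h') :
    x = x' ∧ h = h' := by
  have e1 : x'⁻¹ * x = h' * h⁻¹ := by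
    calc x'⁻¹ * x = x'⁻¹ * (x * h) * h⁻¹ := by group
      _ = x'⁻¹ * (x' * h') * h⁻¹ := by rw [e]
      _ = h' * h⁻¹ := by group
  have e2 := L.inter _ (e1 ▸ mul_mem hh' (inv_mem hh)) (mul_mem (inv_mem hx') hx)
  have : x' = x := inv_mul_eq_one.1 e2
  subst this
  exact ⟨rfl, mul_left_cancel e⟩

theorem Local.split' (L : Local P H) (g : nrm P) :
    ∃ h : H, ∃ x ∈ (P : Subgroup G), (g : G) = x * h := by
  obtain ⟨x, hx, h, hh, e⟩ := L.split g g.2
  exact ⟨⟨h, hh⟩, x, hx, e⟩

/-- The projection of `N` to `H`. -/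
noncomputable def Local.proj (L : Local P H) : nrm P →* H :=
  MonoidHom.mk' (fun g => (L.split' g).choose) fun a b => by
    obtain ⟨x, hx, e1⟩ := (L.split' a).choose_spec
    obtain ⟨y, hy, e2⟩ := (L.split' b).choose_spec
    obtain ⟨w, hw, e3⟩ := (L.split' (a * b)).choose_spec
    refine Subtype.ext (L.split_unique hw
      (mul_mem hx ((Subgroup.mem_normalizer_iff.1 (L.le (L.split' a).choose.2) y).1 hy))
      (L.split' (a * b)).choose.2 ((L.split' a).choose * (L.split' b).choose).2 ?_).2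
    rw [← e3, Subgroup.coe_mul, Subgroup.coe_mul]
    refine (congrArg₂ (· * ·) e1 e2).trans ?_
    group

theorem Local.proj_apply (L : Local P H) {x h : G} (hx : x ∈ (P : Subgroup G)) (hh : h ∈ H)
    (hmem : x * h ∈ nrm P) : ((L.proj ⟨x * h, hmem⟩ : H) : G) = h := by
  obtain ⟨x', hx', e⟩ := (L.split' ⟨x * h, hmem⟩).choose_spec
  exact ((L.split_unique hx hx' hh (L.split' ⟨x * h, hmem⟩).choose.2 e).2).symm

theorem avg_isClassFunction (L : Local P H) (χ : IrrCharacter G) : IsClassFunction H (avg P H χ) := by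
  refine isClassFunction_iff_isConj.2 fun a b hab => ?_
  obtain ⟨c, hc⟩ := isConj_iff.1 hab
  have : a = b := by
    rw [← hc]
    refine Subtype.ext ?_
    show (a : G) = (c : G) * a * (c : G)⁻¹
    rw [L.comm c.2 a.2, mul_inv_cancel_right]
  rw [this]

/-- The averaged function has natural multiplicities; that of the trivial character is the
multiplicity of the trivial character in the restriction to `N`. -/
theorem exists_mult (L : Local P H) (hP : Nat.card P = p) (χ : IrrCharacter G)
    [Fintype (nrm P)] :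
    ∃ m : IrrCharacter H → ℕ, (∀ h : H, avg P H χ h = ∑ μ : IrrCharacter H, (m μ : ℂ) * (μ : H → ℂ) h) ∧
      ((m (oneIrr H) : ℂ) = classInner (fun g : nrm P => (χ : G → ℂ) g) (fun _ => 1)) := by
  classical
  have hcomm : ∀ a b : H, a * b = b * a := fun a b => Subtype.ext (L.comm a.2 b.2)
  have hlin : ∀ μ : IrrCharacter H, ∃ lam : H →* ℂˣ, (μ : H → ℂ) = fun g => (lam g : ℂ) := fun μ => by
    obtain ⟨lam, h⟩ := exists_hom_of_degree_one (isCharacter_of_irr μ.2)
      (degree_one_of_commutative hcomm μ.2)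
    exact ⟨lam, h⟩
  let e : ↥(P : Subgroup G) × H → nrm P := fun z =>
    ⟨(z.1 : G) * z.2, mul_mem (Subgroup.le_normalizer z.1.2) (L.le z.2.2)⟩
  have he : Function.Bijective e := by
    refine ⟨fun a b h => ?_, fun g => ?_⟩
    · obtain ⟨h1, h2⟩ := L.split_unique a.1.2 b.1.2 a.2.2 b.2.2 (congrArg Subtype.val h)
      exact Prod.ext (Subtype.ext h1) (Subtype.ext h2)
    · obtain ⟨x, hx, h, hh, eg⟩ := L.split g g.2
      exact ⟨(⟨x, hx⟩, ⟨h, hh⟩), Subtype.ext eg.symm⟩
  have hproj : ∀ z, L.proj (e z) = z.2 := fun z => Subtype.ext (L.proj_apply z.1.2 z.2.2 _)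
  have hcard : (Nat.card (nrm P) : ℂ) = (p : ℂ) * (Nat.card H : ℂ) := by
    rw [← Nat.card_congr (Equiv.ofBijective e he), Nat.card_prod,
      show Nat.card (P : Subgroup G) = p from hP, Nat.cast_mul]
  have key : ∀ μ : IrrCharacter H, classInner (avg P H χ) (μ : H → ℂ) =
      classInner (fun g : nrm P => (χ : G → ℂ) g) (fun g => (μ : H → ℂ) (L.proj g)) := by
    intro μ
    rw [classInner, classInner, hcard, ← (Equiv.ofBijective e he).sum_comp,
      Fintype.sum_prod_type, Finset.sum_comm, mul_inv_rev, mul_assoc, Finset.mul_sum (a := (p : ℂ)⁻¹)]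
    congr 1
    refine Finset.sum_congr rfl fun h _ => ?_
    rw [avg, mul_assoc, Finset.sum_mul]
    congr 1
    refine Finset.sum_congr rfl fun x _ => ?_
    show _ = (χ : G → ℂ) ((x : G) * h) * conj ((μ : H → ℂ) (L.proj (e (x, h))))
    rw [hproj]
  choose m hm using fun μ : IrrCharacter H => classInner_char_nat
    (isCharacter_restrict (isCharacter_of_irr χ.2) (nrm P))
    (show IsCharacter (nrm P) (fun g => (μ : H → ℂ) (L.proj g)) by
      obtain ⟨lam, hl⟩ := hlin μ
      have := isCharacter_of_irr (isIrrCharacter_linear (lam.comp L.proj))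
      rwa [show (fun g => (((lam.comp L.proj) g : ℂˣ) : ℂ)) = fun g => (μ : H → ℂ) (L.proj g) by
        funext g; rw [hl]; rfl] at this)
  refine ⟨m, fun h => ?_, ?_⟩
  · have h1 := congrFun (eq_sum_irr (avg_isClassFunction L χ)) h
    simpa [key, hm] using h1
  · rw [← hm (oneIrr H)]
    rfl

end CfsgLib.SmallSylow
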