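import Cfsg.Agent.Lib.SmallSylow.Restrict

/-!
# Self-centralizing Sylow subgroups of prime order with few conjugates: the setting
-/

namespace CfsgLib.SmallSylow

open Cfsg CfsgLib.Blocks CfsgLib.CharTheory
open scoped ComplexConjugate

set_option linter.unusedVariables false
set_option linter.style.haveILetI false
set_option linter.unusedSectionVars false

universe u

variable {G : Type u} [Group G] [Fintype G] {p : ℕ} [Fact p.Prime]

/-- The irreducible characters sorted by degree and behaviour on `P`. -/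
structure Setting (P : Sylow p G) (n : ℕ) (A Bm Y O : Finset (IrrCharacter G)) (σ : ℤ) (f : ℕ)
    (u : IrrCharacter G → ℕ) : Prop where
  hsum : ∀ F : IrrCharacter G → ℂ,
    ∑ χ, F χ = F (oneIrr G) + ∑ χ ∈ A, F χ + ∑ χ ∈ Bm, F χ + ∑ χ ∈ Y, F χ + ∑ χ ∈ O, F χ
  qt : Y.card * inIdx P + 1 = p
  ht : 2 ≤ Y.card
  hq : 2 ≤ inIdx P
  count : A.card + Bm.card + 1 = inIdx P
  hσ : σ = 1 ∨ σ = -1
  degA : ∀ χ ∈ A, (χ : G → ℂ) 1 = (n * p + 1 : ℕ)
  degB : ∀ χ ∈ Bm, (χ : G → ℂ) 1 = (p - 1 : ℕ)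
  degY : ∀ χ ∈ Y, (χ : G → ℂ) 1 = (f : ℂ)
  degO : ∀ χ ∈ O, (χ : G → ℂ) 1 = (p * u χ : ℕ)
  upos : ∀ χ ∈ O, 1 ≤ u χ
  valA : ∀ χ ∈ A, ∀ x ∈ (P : Subgroup G), x ≠ 1 → (χ : G → ℂ) x = 1
  valB : ∀ χ ∈ Bm, ∀ x ∈ (P : Subgroup G), x ≠ 1 → (χ : G → ℂ) x = -1
  valO : ∀ χ ∈ O, ∀ x ∈ (P : Subgroup G), x ≠ 1 → (χ : G → ℂ) x = 0
  sumY : ∀ x ∈ (P : Subgroup G), x ≠ 1 → ∑ η ∈ Y, (η : G → ℂ) x = σ
  agree : ∀ η ∈ Y, ∀ η' ∈ Y, ∀ g : G, ¬ p ∣ orderOf g → (η : G → ℂ) g = (η' : G → ℂ) g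
  relation : ∀ η ∈ Y, ∀ g : G, ¬ p ∣ orderOf g →
    1 + ∑ χ ∈ A, (χ : G → ℂ) g - ∑ χ ∈ Bm, (χ : G → ℂ) g + (σ : ℂ) * (η : G → ℂ) g = 0
  fdvd : f ∣ inIdx P * (n * p + 1)
  rat : (f : ℤ) ≡ -σ * inIdx P [ZMOD p]

theorem exists_setting (hperf : commutator G = ⊤) (P : Sylow p G) (hP : Nat.card P = p) {n : ℕ}
    (hn : Nat.card (Sylow p G) = n * p + 1) (hn1 : 1 ≤ n) (hnF : Arith.NotForm p n)
    (hC : Subgroup.centralizer ((P : Subgroup G) : Set G) = (P : Subgroup G)) :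
    ∃ A Bm Y O σ f u, Setting P n A Bm Y O σ f u := by
  classical
  have hp := (Fact.out : p.Prime)
  obtain ⟨M, hM⟩ := exists_pModular hp
  obtain ⟨X, Y, δ, σ, D⟩ := exists_data hM (prime_ne_two hperf P hP) P hP
  have hq := two_le_inIdx hperf P hP
  have hne := inIdx_lt hperf P hP hn hn1 hnF hC
  have hregone : ¬ p ∣ orderOf (1 : G) := by rw [orderOf_one]; exact hp.not_dvd_one
  have hY0 : 0 < Y.card := by
    rcases Nat.eq_zero_or_pos Y.card with h | h
    · have := D.cardY; rw [h, zero_mul] at this; have := hp.two_le; omega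
    · exact h
  obtain ⟨η, hη⟩ := Finset.card_pos.1 hY0
  have ht : 2 ≤ Y.card := by
    by_contra hlt
    have h1 := D.cardY
    rw [show Y.card = 1 by omega, one_mul] at h1
    have := hp.two_le
    omega
  have h1X : oneIrr G ∈ X := by
    refine (D.one_mem hM).resolve_right fun h1 => ?_
    obtain ⟨η', hη', hne'⟩ := Finset.exists_mem_ne ht (oneIrr G)
    refine hne' (eq_one_of_degree_one hperf ?_)
    have h2 := D.agree η' hη' _ h1 1 hregone
    rw [← irr_charDegree_cast, ← irr_charDegree_cast, charDegree_oneIrr, Nat.cast_inj] at h2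
    exact h2
  obtain ⟨x₀, hx₀, hx₀1⟩ := exists_mem_ne P hP
  have hδ1 : δ (oneIrr G) = 1 := by
    have h := D.valX _ h1X x₀ hx₀ hx₀1
    have h' : ((δ (oneIrr G) : ℤ) : ℂ) = ((1 : ℤ) : ℂ) := by rw [← h, Int.cast_one]; rfl
    exact_mod_cast h'
  set A := (X.erase (oneIrr G)).filter (fun χ => δ χ = 1) with hA
  set Bm := (X.erase (oneIrr G)).filter (fun χ => ¬ δ χ = 1) with hB
  set O := Finset.univ \ (X ∪ Y) with hO
  have hBδ : ∀ χ ∈ Bm, δ χ = -1 := fun χ hχ => by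
    rw [hB, Finset.mem_filter, Finset.mem_erase] at hχ
    exact (D.hδ χ hχ.1.2).resolve_left hχ.2
  have hcase : ∀ χ ∈ X.erase (oneIrr G),
      (δ χ = 1 ∧ charDegree (χ : G → ℂ) = n * p + 1) ∨ (δ χ = -1 ∧ charDegree (χ : G → ℂ) + 1 = p) := by
    intro χ hχ
    rw [Finset.mem_erase] at hχ
    rcases degree_cases hperf hP hn hn1 hnF D.inIdx_dvd hχ.1 (D.hδ χ hχ.2) (D.degX χ hχ.2)
      (D.dvdX χ hχ.2) with h | h | ⟨-, h, -⟩
    · exact Or.inl h
    · exact Or.inr h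
    · exact absurd h hne
  have hOout : ∀ χ ∈ O, χ ∉ principalBlock M G := fun χ hχ => by
    rw [hO, Finset.mem_sdiff, Finset.mem_union] at hχ
    rw [D.union]
    exact hχ.2
  refine ⟨A, Bm, Y, O, σ, charDegree (η : G → ℂ), fun χ => charDegree (χ : G → ℂ) / p,
    { hsum := fun F => ?_
      qt := by rw [D.cardY]; have := hp.two_le; omega
      ht := ht
      hq := hq
      count := by
        have h1 : A.card + Bm.card = (X.erase (oneIrr G)).card :=
          Finset.card_filter_add_card_filter_not _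
        rw [Finset.card_erase_of_mem h1X, D.cardX] at h1
        omega
      hσ := D.hσ
      degA := fun χ hχ => ?_
      degB := fun χ hχ => ?_
      degY := fun χ hχ => by
        rw [D.agree χ hχ η hη 1 hregone, irr_charDegree_cast]
      degO := fun χ hχ => by
        rw [Nat.mul_div_cancel' (outside hM P hP hC (hOout χ hχ)).2, irr_charDegree_cast]
      upos := fun χ hχ => ?_
      valA := fun χ hχ x hx hx1 => ?_
      valB := fun χ hχ x hx hx1 => ?_
      valO := fun χ hχ => (outside hM P hP hC (hOout χ hχ)).1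
      sumY := D.sumY
      agree := D.agree
      relation := fun η' hη' g hg => ?_
      fdvd := hn ▸ D.dvdY η hη
      rat := D.degY η hη }⟩
  · rw [← Finset.sum_sdiff (Finset.subset_univ (X ∪ Y)), Finset.sum_union D.disj,
      ← Finset.add_sum_erase _ _ h1X, ← Finset.sum_filter_add_sum_filter_not (X.erase (oneIrr G))
        (fun χ => δ χ = 1), ← hA, ← hB, ← hO]
    ring
  · rw [hA, Finset.mem_filter] at hχ
    rcases hcase χ hχ.1 with ⟨-, h⟩ | ⟨h, -⟩
    · rw [← irr_charDegree_cast, h]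
    · rw [hχ.2] at h; norm_num at h
  · have hd := hBδ χ hχ
    rw [hB, Finset.mem_filter] at hχ
    rcases hcase χ hχ.1 with ⟨h, -⟩ | ⟨-, h⟩
    · rw [hd] at h; norm_num at h
    · rw [← irr_charDegree_cast, show charDegree (χ : G → ℂ) = p - 1 by omega]
  · have h1 := (outside hM P hP hC (hOout χ hχ)).2
    have h0 : charDegree (χ : G → ℂ) ≠ 0 := fun h =>
      irr_one_ne_zero χ (by rw [← irr_charDegree_cast, h, Nat.cast_zero])
    exact (Nat.one_le_div_iff hp.pos).2 (Nat.le_of_dvd (Nat.pos_of_ne_zero h0) h1)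
  · rw [hA, Finset.mem_filter, Finset.mem_erase] at hχ
    rw [D.valX χ hχ.1.2 x hx hx1, hχ.2, Int.cast_one]
  · have hd := hBδ χ hχ
    rw [hB, Finset.mem_filter, Finset.mem_erase] at hχ
    rw [D.valX χ hχ.1.2 x hx hx1, hd, Int.cast_neg, Int.cast_one]
  · have h := D.relation η' hη' g hg
    rw [← Finset.add_sum_erase _ _ h1X, ← Finset.sum_filter_add_sum_filter_not (X.erase (oneIrr G))
        (fun χ => δ χ = 1), ← hA, ← hB] at h
    rw [hδ1, show ((1 : ℤ) : ℂ) * (oneIrr G : G → ℂ) g = 1 from by rw [Int.cast_one, one_mul]; rfl,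
      Finset.sum_congr rfl fun χ (hχ : χ ∈ A) => show (δ χ : ℂ) * (χ : G → ℂ) g = (χ : G → ℂ) g by
        rw [(Finset.mem_filter.1 hχ).2, Int.cast_one, one_mul],
      Finset.sum_congr rfl fun χ (hχ : χ ∈ Bm) => show (δ χ : ℂ) * (χ : G → ℂ) g = -(χ : G → ℂ) g by
        rw [hBδ χ hχ, Int.cast_neg, Int.cast_one, neg_one_mul],
      Finset.sum_neg_distrib] at h
    linear_combination h

variable {P : Sylow p G} {n : ℕ} {A Bm Y O : Finset (IrrCharacter G)} {σ : ℤ} {f : ℕ}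
  {u : IrrCharacter G → ℕ}

theorem Setting.regular_one : ¬ p ∣ orderOf (1 : G) := by
  rw [orderOf_one]; exact (Fact.out : p.Prime).not_dvd_one

theorem Setting.nonempty (S : Setting P n A Bm Y O σ f u) : Y.Nonempty :=
  Finset.card_pos.1 (by have := S.ht; omega)

theorem Setting.card_group (S : Setting P n A Bm Y O σ f u) (hP : Nat.card P = p)
    (hn : Nat.card (Sylow p G) = n * p + 1)
    (hC : Subgroup.centralizer ((P : Subgroup G) : Set G) = (P : Subgroup G)) :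
    Nat.card G = p * inIdx P * (n * p + 1) := by
  rw [card_eq_mul P, hC, hn, show Nat.card (P : Subgroup G) = p from hP]

/-- The equation of the degrees. -/
theorem Setting.equation (S : Setting P n A Bm Y O σ f u) :
    1 + (A.card : ℤ) * (n * p + 1) - Bm.card * ((p : ℤ) - 1) + σ * f = 0 := by
  obtain ⟨η, hη⟩ := S.nonempty
  have h := S.relation η hη 1 Setting.regular_one
  rw [Finset.sum_congr rfl fun χ hχ => S.degA χ hχ, Finset.sum_congr rfl fun χ hχ => S.degB χ hχ,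
    Finset.sum_const, Finset.sum_const, nsmul_eq_mul, nsmul_eq_mul, S.degY η hη,
    Nat.cast_sub (Fact.out : p.Prime).one_le] at h
  push_cast at h
  have h' : ((1 + (A.card : ℤ) * (n * p + 1) - Bm.card * ((p : ℤ) - 1) + σ * f : ℤ) : ℂ) = 0 := by
    push_cast
    linear_combination h
  exact_mod_cast h'

/-- The sum of the squares of the degrees. -/
theorem Setting.squares (S : Setting P n A Bm Y O σ f u) (hP : Nat.card P = p)
    (hn : Nat.card (Sylow p G) = n * p + 1)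
    (hC : Subgroup.centralizer ((P : Subgroup G) : Set G) = (P : Subgroup G)) :
    1 + (A.card : ℤ) * (n * p + 1) ^ 2 + Bm.card * ((p : ℤ) - 1) ^ 2 + Y.card * (f : ℤ) ^ 2 +
      (p : ℤ) ^ 2 * (∑ χ ∈ O, (u χ : ℤ) ^ 2) = p * inIdx P * (n * p + 1) := by
  have h := sum_irr_degree_sq (G := G)
  rw [S.hsum, Finset.sum_congr rfl fun χ hχ => by rw [S.degA χ hχ],
    Finset.sum_const, S.card_group hP hn hC] at h
  rw [Finset.sum_congr rfl fun χ (hχ : χ ∈ Bm) => show (χ : G → ℂ) 1 ^ 2 = ((p - 1 : ℕ) : ℂ) ^ 2 by rw [S.degB χ hχ],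
    Finset.sum_const] at h
  rw [Finset.sum_congr rfl fun χ (hχ : χ ∈ Y) => show (χ : G → ℂ) 1 ^ 2 = (f : ℂ) ^ 2 by rw [S.degY χ hχ],
    Finset.sum_const] at h
  rw [Finset.sum_congr rfl fun χ (hχ : χ ∈ O) => show (χ : G → ℂ) 1 ^ 2 = (p : ℂ) ^ 2 * (u χ : ℂ) ^ 2 by
    rw [S.degO χ hχ, Nat.cast_mul, mul_pow], ← Finset.mul_sum] at h
  rw [show (oneIrr G : G → ℂ) 1 = 1 from rfl, Nat.cast_sub (Fact.out : p.Prime).one_le] at h
  simp only [nsmul_eq_mul] at h
  push_cast at h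
  have h' : ((1 + (A.card : ℤ) * (n * p + 1) ^ 2 + Bm.card * ((p : ℤ) - 1) ^ 2 +
      Y.card * (f : ℤ) ^ 2 + (p : ℤ) ^ 2 * (∑ χ ∈ O, (u χ : ℤ) ^ 2) : ℤ) : ℂ) =
      ((p * inIdx P * (n * p + 1) : ℤ) : ℂ) := by
    push_cast
    linear_combination h
  exact_mod_cast h'

/-- The degree of the exceptional characters is either small or has a special shape. -/
theorem Setting.shape (S : Setting P n A Bm Y O σ f u) (hP : Nat.card P = p)
    (hn : Nat.card (Sylow p G) = n * p + 1) (hn1 : 1 ≤ n) (hnF : Arith.NotForm p n)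
    (hC : Subgroup.centralizer ((P : Subgroup G) : Set G) = (P : Subgroup G)) :
    f = inIdx P ∨ ∃ w : ℕ, 1 ≤ w ∧ σ = 1 ∧ A.card * (n + 1) + w + 1 = inIdx P ∧
      f + inIdx P = w * p ∧ n + 1 = w * Y.card ∧ Y.card * f = n * p + 1 ∧
      ∑ χ ∈ O, u χ ^ 2 = n := by
  obtain ⟨η, hη⟩ := S.nonempty
  have hf : 1 ≤ f := Nat.one_le_iff_ne_zero.2 fun h => irr_one_ne_zero η (by
    rw [S.degY η hη, h, Nat.cast_zero])
  have hsq := S.squares hP hn hC
  have hpos : (0 : ℤ) ≤ (p : ℤ) ^ 2 * ∑ χ ∈ O, (u χ : ℤ) ^ 2 :=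
    mul_nonneg (sq_nonneg _) (Finset.sum_nonneg fun χ _ => sq_nonneg _)
  have hqt : (inIdx P : ℤ) * Y.card + 1 = p := by
    have := S.qt
    push_cast [← this]
    ring
  rcases Arith.exceptional (q := inIdx P) (t := Y.card) (a := A.card) (b := Bm.card) (f := f)
    (Fact.out : p.Prime) S.hσ (by rw [mul_comm]; exact S.qt) S.ht S.hq hn1 hnF S.count hf S.rat
    S.equation S.fdvd with h | ⟨w, hw, hσ, ha, hfw', hnw'⟩
  · exact Or.inl h
  · have hfw : (f : ℤ) + inIdx P = (w : ℤ) * p := by exact_mod_cast hfw'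
    have hnw : (n : ℤ) + 1 = (w : ℤ) * Y.card := by exact_mod_cast hnw'
    have haw : (A.card : ℤ) * (n + 1) + w + 1 = inIdx P := by exact_mod_cast ha
    refine Or.inr ⟨w, hw, hσ, ha, hfw', hnw', ?_, ?_⟩
    · have : ((Y.card * f : ℕ) : ℤ) = ((n * p + 1 : ℕ) : ℤ) := by
        push_cast
        linear_combination (Y.card : ℤ) * hfw - (p : ℤ) * hnw - hqt
      exact_mod_cast this
    · have htf : (Y.card : ℤ) * f = n * p + 1 := by
        linear_combination (Y.card : ℤ) * hfw - (p : ℤ) * hnw - hqt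
      have heq := S.equation
      rw [hσ, one_mul] at heq
      have e : (p : ℤ) ^ 2 * ((∑ χ ∈ O, (u χ : ℤ) ^ 2) - n) = 0 := by
        linear_combination hsq + ((p : ℤ) - 1) * heq - ((n : ℤ) * p + 1) * (p : ℤ) * haw
          + (((p : ℤ) - 1) - (Y.card : ℤ) * f) * 0 - (f : ℤ) * (Y.card : ℤ) * hfw
          - (w : ℤ) * p * htf + (p : ℤ) * ((n : ℤ) * p + 1) * 0 + (f : ℤ) * hqt
      have h2 := (mul_eq_zero.1 e).resolve_left (pow_ne_zero _ (by
        exact_mod_cast (Fact.out : p.Prime).ne_zero))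
      have : ((∑ χ ∈ O, u χ ^ 2 : ℕ) : ℤ) = n := by push_cast; linarith
      exact_mod_cast this

end CfsgLib.SmallSylow
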