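import Cfsg.Agent.Lib.SmallSylow.Setting
import Cfsg.Agent.Lib.SmallRep.Equality
import Cfsg.Agent.S0732

/-!
# The cases leading to `PSL(2, p)`
-/

namespace CfsgLib.SmallSylow

open Cfsg CfsgLib.Blocks CfsgLib.CharTheory
open scoped ComplexConjugate

set_option linter.unusedVariables false
set_option linter.style.haveILetI false
set_option linter.unusedSectionVars false

universe u

variable {G : Type u} [Group G] [Fintype G] {p : ℕ} [Fact p.Prime] {P : Sylow p G} {n : ℕ}

/-- A subgroup of order divisible by `p` that is normal contains `P`. -/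
theorem le_of_normal_dvd (hP : Nat.card P = p) {K : Subgroup G} [K.Normal] (hd : p ∣ Nat.card K) :
    (P : Subgroup G) ≤ K := by
  have hp := (Fact.out : p.Prime)
  obtain ⟨⟨g, hg⟩, hgo⟩ := exists_prime_orderOf_dvd_card' p hd
  rw [← Subgroup.orderOf_coe] at hgo
  obtain ⟨S, hS⟩ := (IsPGroup.of_card (p := p) (n := 1)
    (G := Subgroup.zpowers g) (by rw [Nat.card_zpowers, hgo, pow_one])).exists_le_sylow
  obtain ⟨c, hc⟩ := MulAction.exists_smul_eq G S P
  have hmem : c * g * c⁻¹ ∈ (P : Subgroup G) := by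
    rw [← hc]
    exact ⟨g, hS (Subgroup.mem_zpowers g), rfl⟩
  have hne : c * g * c⁻¹ ≠ 1 := fun h => hp.ne_one (by
    have h1g : orderOf g = 1 := by rw [conj_eq_one_iff.1 h, orderOf_one]
    exact hgo.symm.trans h1g)
  rw [← (DefectOne.zpowers_eq (DefectOne.setup_sylow P hP) hP hmem hne).1, Subgroup.zpowers_le]
  exact Subgroup.Normal.conj_mem inferInstance g hg c

theorem not_normal_zpowers (hP : Nat.card P = p) (hn : Nat.card (Sylow p G) = n * p + 1)
    (hn1 : 1 ≤ n) {x : G} (hx : x ∈ (P : Subgroup G)) (hx1 : x ≠ 1) :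
    ¬ (Subgroup.zpowers x).Normal := by
  rw [(DefectOne.zpowers_eq (DefectOne.setup_sylow P hP) hP hx hx1).1]
  intro hN
  haveI := hN
  haveI := Sylow.unique_of_normal P hN
  rw [Nat.card_unique] at hn
  have : 1 ≤ n * p := Nat.one_le_iff_ne_zero.2 (Nat.mul_ne_zero (by omega) (Fact.out : p.Prime).ne_zero)
  omega

variable {A Bm Y O : Finset (IrrCharacter G)} {σ : ℤ} {f : ℕ} {u : IrrCharacter G → ℕ}

/-- The case of a small exceptional degree. -/
theorem Setting.psl_of_small (S : Setting P n A Bm Y O σ f u) (hP : Nat.card P = p)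
    (hn : Nat.card (Sylow p G) = n * p + 1) (hn1 : 1 ≤ n)
    (hC : Subgroup.centralizer ((P : Subgroup G) : Set G) = (P : Subgroup G))
    (hcore : ∀ K : Subgroup G, K.Normal → ¬ p ∣ Nat.card K → K = ⊥) (hf : f = inIdx P) :
    Nonempty (G ≃* Matrix.ProjectiveSpecialLinearGroup (Fin 2) (ZMod p)) := by
  classical
  have hp := (Fact.out : p.Prime)
  obtain ⟨x, hx, hx1⟩ := exists_mem_ne P hP
  obtain ⟨η, hη, hηx⟩ : ∃ η ∈ Y, (η : G → ℂ) x ≠ (η : G → ℂ) 1 := by
    by_contra hno
    push Not at hno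
    have h := S.sumY x hx hx1
    rw [Finset.sum_congr rfl fun η hη => (hno η hη).trans (S.degY η hη), Finset.sum_const,
      nsmul_eq_mul] at h
    have h' : ((Y.card * f : ℤ) : ℂ) = ((σ : ℤ) : ℂ) := by push_cast; exact h
    have h2 : (Y.card : ℤ) * f = σ := by exact_mod_cast h'
    have h3 : 4 ≤ Y.card * f := by
      rw [hf]
      exact Nat.mul_le_mul S.ht S.hq
    have h4 : (4 : ℤ) ≤ Y.card * f := by exact_mod_cast h3
    rcases S.hσ with h5 | h5 <;> omega
  obtain ⟨k, ρ, hρ, hρχ⟩ := η.2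
  have hk : k = inIdx P := by
    have h := S.degY η hη
    rw [← hρχ, Representation.char_one, Module.finrank_fin_fun, Nat.cast_inj] at h
    omega
  have hK : charKernel (η : G → ℂ) (isCharacter_of_irr η.2) = ⊥ := by
    refine hcore _ inferInstance fun hd => hηx ?_
    exact (mem_charKernel _ x).1 (le_of_normal_dvd hP hd hx)
  have hinj : Function.Injective ρ := by
    intro a b hab
    rw [← inv_mul_eq_one, ← Subgroup.mem_bot, ← hK, mem_charKernel, ← hρχ]
    show LinearMap.trace ℂ _ (ρ (a⁻¹ * b)) = LinearMap.trace ℂ _ (ρ 1)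
    rw [map_mul, ← hab, ← map_mul, inv_mul_cancel]
  have hsq : ¬ p ^ 2 ∣ Nat.card G := DefectOne.sq_not_dvd (DefectOne.setup_sylow P hP) hP
  have hxo := orderOf_mem P hP hx hx1
  have hnn := not_normal_zpowers hP hn hn1 hx hx1
  have hle : 2 * k + 1 ≤ p := by
    have h1 := S.qt
    have h2 := Nat.mul_le_mul_right (inIdx P) S.ht
    omega
  rcases hle.lt_or_eq with hlt | heq
  · exact absurd (SmallRep.normal_of_small_degree hlt G x hxo hsq ρ hinj) hnn
  obtain ⟨e⟩ := SmallRep.central_quotient_psl heq.symm hxo hsq ρ hinj hnn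
  have hZ : Subgroup.center G = ⊥ := by
    refine hcore _ inferInstance fun hd => hnn ?_
    have h1 : Subgroup.centralizer ({x} : Set G) = ⊤ := by
      rw [eq_top_iff]
      intro g _
      rw [Subgroup.mem_centralizer_singleton_iff]
      exact Subgroup.mem_center_iff.1 (le_of_normal_dvd hP hd hx) g
    rw [centralizer_eq P hP hx hx1, hC] at h1
    rw [(DefectOne.zpowers_eq (DefectOne.setup_sylow P hP) hP hx hx1).1, h1]
    infer_instance
  exact ⟨((QuotientGroup.quotientMulEquivOfEq hZ).trans QuotientGroup.quotientBot).symm.trans e⟩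

/-- The case of `p + 1` Sylow subgroups. -/
theorem psl_of_one (hP : Nat.card P = p) (hn : Nat.card (Sylow p G) = p + 1)
    (hC : Subgroup.centralizer ((P : Subgroup G) : Set G) = (P : Subgroup G))
    (hcore : ∀ K : Subgroup G, K.Normal → ¬ p ∣ Nat.card K → K = ⊥)
    (hqp : 2 * inIdx P + 1 = p) (heven : Even (inIdx P)) :
    Nonempty (G ≃* Matrix.ProjectiveSpecialLinearGroup (Fin 2) (ZMod p)) := by
  classical
  have hp := (Fact.out : p.Prime)
  set N := nrm P
  let Ω := G ⧸ N
  haveI : Fintype Ω := Fintype.ofFinite _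
  let φ : G →* Equiv.Perm Ω := MulAction.toPermHom G Ω
  have hφ : Function.Injective φ := by
    rw [← φ.ker_eq_bot_iff]
    refine hcore _ inferInstance fun hd => ?_
    have hle := le_of_normal_dvd hP hd
    have hker : φ.ker ≤ N := fun g hg => by
      have h1 : g • ((1 : G) : Ω) = ((1 : G) : Ω) := by
        have h := DFunLike.congr_fun (MonoidHom.mem_ker.1 hg) ((1 : G) : Ω)
        exact h
      have h2 : (1 : G)⁻¹ * g * 1 ∈ N := (fix_mk_iff N g 1).1 h1
      simpa using h2
    -- then `P` is normal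
    have hPnorm : (P : Subgroup G).Normal := by
      refine ⟨fun a ha g => ?_⟩
      have h1 : g * a * g⁻¹ ∈ φ.ker := Subgroup.Normal.conj_mem inferInstance a (hle ha) g
      have h2 : g * a * g⁻¹ ∈ N := hker h1
      rcases eq_or_ne a 1 with rfl | ha1
      · simp
      have h3 : orderOf (g * a * g⁻¹) = p := by
        rw [show g * a * g⁻¹ = MulAut.conj g a from rfl, MulEquiv.orderOf_eq, orderOf_mem P hP ha ha1]
      obtain ⟨H, L⟩ := exists_local P hP hC
      obtain ⟨x, hx, k, hk, e⟩ := L.split _ h2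
      rcases eq_or_ne k 1 with rfl | hk1
      · rw [e, mul_one]; exact hx
      · exfalso
        obtain ⟨y, hy, ey⟩ := L.exists_conj hk hk1 hx
        rw [e, ← ey, show y * k * y⁻¹ = MulAut.conj y k from rfl, MulEquiv.orderOf_eq] at h3
        have h4 := Subgroup.orderOf_dvd_natCard H hk
        rw [h3, L.card] at h4
        have h5 : 0 < inIdx P := Nat.pos_of_ne_zero Subgroup.index_ne_zero_of_finite
        have := Nat.le_of_dvd h5 h4
        omega
    haveI := Sylow.unique_of_normal P hPnorm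
    rw [Nat.card_unique] at hn
    have := hp.two_le
    omega
  let e := MonoidHom.ofInjective hφ
  haveI : MulAction.IsPretransitive φ.range Ω := by
    constructor
    intro a b
    obtain ⟨g, hg⟩ := MulAction.exists_smul_eq G a b
    exact ⟨⟨φ g, g, rfl⟩, hg⟩
  have hΩ : Fintype.card Ω = p + 1 := by
    rw [← Nat.card_eq_fintype_card, ← hn, Sylow.card_eq_index_normalizer P]
    rfl
  have hcard : Nat.card φ.range = (p + 1) * p * inIdx P := by
    rw [← Nat.card_congr e.toEquiv, card_eq_mul P, hC, hn,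
      show Nat.card (P : Subgroup G) = p from hP]
    ring
  rcases Cfsg.Agent.S0732.result hp hΩ φ.range hcard (by omega) with ⟨h, -⟩ | ⟨-, ⟨e'⟩⟩ | ⟨r, hr, hr2, -⟩
  · have := hp.two_le
    omega
  · exact ⟨e.trans e'⟩
  · exfalso
    obtain ⟨k, hk⟩ := heven
    obtain ⟨s, rfl⟩ : ∃ s, r = s + 2 := ⟨r - 2, by have := hr.two_le; omega⟩
    rw [show 2 ^ (s + 2) = 4 * 2 ^ s by ring] at hr2
    omega

end CfsgLib.SmallSylow
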