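import Cfsg.Agent.Lib.SmallSylow.Small
import Cfsg.Agent.Lib.Blocks.DefectZeroCount

/-!
# The structure in the remaining case
-/

namespace CfsgLib.SmallSylow

open Cfsg CfsgLib.Blocks CfsgLib.CharTheory
open scoped ComplexConjugate

set_option linter.unusedVariables false
set_option linter.style.haveILetI false
set_option linter.unusedSectionVars false

universe u

variable {G : Type u} [Group G] [Fintype G] {p : ℕ} [Fact p.Prime] {P : Sylow p G} {n : ℕ}
  {A Bm Y O : Finset (IrrCharacter G)} {σ : ℤ} {f : ℕ} {u : IrrCharacter G → ℕ}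

theorem sum_irr_eq_zero {H : Type u} [Group H] [Fintype H] {μ : IrrCharacter H}
    (hμ : μ ≠ oneIrr H) : ∑ h : H, (μ : H → ℂ) h = 0 := by
  have h := classInner_irr_ne μ.2 (oneIrr H).2 fun e => hμ (Subtype.ext e)
  simp only [classInner, mul_eq_zero, inv_eq_zero, Nat.cast_eq_zero] at h
  have h2 := h.resolve_left Nat.card_pos.ne'
  simpa [oneIrr] using h2

theorem Setting.p_gt (S : Setting P n A Bm Y O σ f u) : 2 * inIdx P + 1 ≤ p := by
  have h1 := S.qt
  have h2 := Nat.mul_le_mul_right (inIdx P) S.ht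
  omega

/-- The members are sorted. -/
theorem Setting.sorted (S : Setting P n A Bm Y O σ f u) (χ : IrrCharacter G) :
    χ = oneIrr G ∨ χ ∈ A ∨ χ ∈ Bm ∨ χ ∈ Y ∨ χ ∈ O := by
  classical
  by_contra hno
  push Not at hno
  obtain ⟨h1, h2, h3, h4, h5⟩ := hno
  have h := S.hsum fun ψ => if ψ = χ then 1 else 0
  rw [Finset.sum_ite_eq' Finset.univ χ, if_pos (Finset.mem_univ _), if_neg (Ne.symm h1),
    Finset.sum_ite_eq' A χ, if_neg h2, Finset.sum_ite_eq' Bm χ, if_neg h3, Finset.sum_ite_eq' Y χ,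
    if_neg h4, Finset.sum_ite_eq' O χ, if_neg h5] at h
  norm_num at h

/-- The second alternative of the theorem. -/
def TwoCase (G : Type u) [Group G] (p : ℕ) : Prop :=
  ∃ z : G, orderOf z = 2 ∧ Nat.card (Subgroup.centralizer ({z} : Set G)) = p - 1 ∧
    (∀ y ∈ Subgroup.centralizer ({z} : Set G), y ≠ 1 → y * y = 1 ∧ IsConj z y) ∧
    Nat.card G = p * (p - 1) * (p - 2)

theorem Setting.structure_thm (S : Setting P n A Bm Y O σ f u) (hP : Nat.card P = p)
    (hn : Nat.card (Sylow p G) = n * p + 1) (hn1 : 1 ≤ n) (hnF : Arith.NotForm p n)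
    (hC : Subgroup.centralizer ((P : Subgroup G) : Set G) = (P : Subgroup G))
    (hcore : ∀ K : Subgroup G, K.Normal → ¬ p ∣ Nat.card K → K = ⊥) :
    Nonempty (G ≃* Matrix.ProjectiveSpecialLinearGroup (Fin 2) (ZMod p)) ∨ TwoCase G p := by
  classical
  have hp := (Fact.out : p.Prime)
  rcases S.shape hP hn hn1 hnF hC with hf | ⟨w, hw, hσ, haw, hfw, hnw, htf, hU⟩
  · exact Or.inl (S.psl_of_small hP hn hn1 hC hcore hf)
  subst hσ
  set q := inIdx P with hqdef
  set t := Y.card with htdef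
  have hq := S.hq
  have ht := S.ht
  have hqt : t * q + 1 = p := S.qt
  have hgt := S.p_gt
  obtain ⟨H, L⟩ := exists_local P hP hC
  haveI : Fintype H := Fintype.ofFinite _
  haveI : Fintype (P : Subgroup G) := Fintype.ofFinite _
  haveI : Fintype (nrm P) := Fintype.ofFinite _
  choose m hm hm1 using fun χ : IrrCharacter G => exists_mult L hP χ
  haveI := L.cyclic
  have hHc : Fintype.card H = q := by rw [← Nat.card_eq_fintype_card]; exact L.card
  have hPc : Fintype.card (P : Subgroup G) = p := by rw [← Nat.card_eq_fintype_card]; exact hP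
  have hpc : (p : ℂ) ≠ 0 := Nat.cast_ne_zero.2 hp.ne_zero
  have hcomm : ∀ a b : H, a * b = b * a := fun a b => Subtype.ext (L.comm a.2 b.2)
  have hμ1 : ∀ μ : IrrCharacter H, (μ : H → ℂ) 1 = 1 := fun μ => degree_one_of_commutative hcomm μ.2
  have hreg : ∀ h : H, ¬ p ∣ orderOf (h : G) := fun h hd => by
    have h1 := Subgroup.orderOf_dvd_natCard H h.2
    rw [L.card] at h1
    have := Nat.le_of_dvd (by omega) (hd.trans h1)
    omega
  -- totals of the multiplicities
  have htot : ∀ χ : IrrCharacter G,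
      (∑ μ : IrrCharacter H, (m χ μ : ℂ)) = avg P H χ 1 := fun χ => by
    rw [hm χ 1]
    exact Finset.sum_congr rfl fun μ _ => by rw [hμ1, mul_one]
  have hsumH : ∀ χ : IrrCharacter G, ∑ h : H, avg P H χ h = (q : ℂ) * (m χ (oneIrr H) : ℂ) := by
    intro χ
    rw [Finset.sum_congr rfl fun h _ => hm χ h, Finset.sum_comm,
      Finset.sum_eq_single (oneIrr H)]
    · rw [← Finset.mul_sum]
      show (m χ (oneIrr H) : ℂ) * ∑ _h : H, (1 : ℂ) = _
      rw [Finset.sum_const, Finset.card_univ, hHc, nsmul_eq_mul, mul_one, mul_comm]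
    · intro μ _ hne
      rw [← Finset.mul_sum, sum_irr_eq_zero hne, mul_zero]
    · exact fun h => absurd (Finset.mem_univ _) h
  have havg1 : ∀ (χ : IrrCharacter G) (v : ℂ),
      (∀ x ∈ (P : Subgroup G), x ≠ 1 → (χ : G → ℂ) x = v) →
      avg P H χ 1 = (p : ℂ)⁻¹ * ((χ : G → ℂ) 1 + ((p : ℂ) - 1) * v) := by
    intro χ v hv
    rw [avg_one, ← Finset.add_sum_erase _ _ (Finset.mem_univ (1 : (P : Subgroup G))), Subgroup.coe_one,
      Finset.sum_congr rfl fun x (hx : x ∈ Finset.univ.erase (1 : (P : Subgroup G))) =>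
        hv x x.2 fun e => Finset.ne_of_mem_erase hx (Subtype.ext e),
      Finset.sum_const, Finset.card_erase_of_mem (Finset.mem_univ _), Finset.card_univ, hPc,
      nsmul_eq_mul, Nat.cast_sub hp.one_le, Nat.cast_one]
  have hA1 : ∀ χ ∈ A, avg P H χ 1 = (n + 1 : ℕ) := fun χ hχ => by
    rw [havg1 χ 1 (S.valA χ hχ), S.degA χ hχ]
    push_cast
    field_simp
    ring
  have hB1 : ∀ χ ∈ Bm, avg P H χ 1 = 0 := fun χ hχ => by
    rw [havg1 χ (-1) (S.valB χ hχ), S.degB χ hχ, Nat.cast_sub hp.one_le]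
    push_cast
    ring
  have hO1 : ∀ χ ∈ O, avg P H χ 1 = (u χ : ℂ) := fun χ hχ => by
    rw [havg1 χ 0 (S.valO χ hχ), S.degO χ hχ]
    push_cast
    field_simp
    ring
  have hone1 : avg P H (oneIrr G) 1 = 1 := by
    rw [havg1 (oneIrr G) 1 fun _ _ _ => rfl]
    show (p : ℂ)⁻¹ * (1 + ((p : ℂ) - 1) * 1) = 1
    field_simp
    ring
  have hY1 : ∑ η ∈ Y, avg P H η 1 = (t * w : ℕ) := by
    rw [Finset.sum_congr rfl fun η _ => avg_one (P := P) (H := H) η, ← Finset.mul_sum, Finset.sum_comm,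
      ← Finset.add_sum_erase _ _ (Finset.mem_univ (1 : (P : Subgroup G))), Subgroup.coe_one,
      Finset.sum_congr rfl fun η hη => S.degY η hη,
      Finset.sum_congr rfl fun x (hx : x ∈ Finset.univ.erase (1 : (P : Subgroup G))) =>
        S.sumY x x.2 fun e => Finset.ne_of_mem_erase hx (Subtype.ext e),
      Finset.sum_const, Finset.sum_const, Finset.card_erase_of_mem (Finset.mem_univ _), Finset.card_univ,
      hPc, nsmul_eq_mul, nsmul_eq_mul, Nat.cast_sub hp.one_le, ← htdef]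
    push_cast
    have e1 : ((f + q : ℕ) : ℂ) = ((w * p : ℕ) : ℂ) := by rw [hfw]
    have e2 : ((t * q + 1 : ℕ) : ℂ) = (p : ℂ) := by rw [hqt]
    push_cast at e1 e2
    rw [inv_mul_eq_iff_eq_mul₀ hpc]
    linear_combination (t : ℂ) * e1 - e2
  -- characters of degree `p - 1` vanish on `H`
  have hB0 : ∀ χ ∈ Bm, ∀ h : H, avg P H χ h = 0 := by
    intro χ hχ h
    have h1 := htot χ
    rw [hB1 χ hχ, ← Nat.cast_sum, Nat.cast_eq_zero, Finset.sum_eq_zero_iff] at h1
    rw [hm χ h]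
    exact Finset.sum_eq_zero fun μ hμ => by rw [h1 μ hμ, Nat.cast_zero, zero_mul]
  obtain ⟨η₀, hη₀⟩ := S.nonempty
  have hne1 : ∀ h : H, h ≠ 1 → (h : G) ≠ 1 := fun h hh e => hh (Subtype.ext e)
  have hrelH : ∀ h : H, h ≠ 1 → ∀ η ∈ Y,
      1 + ∑ χ ∈ A, (χ : G → ℂ) h + (η : G → ℂ) h = 0 := by
    intro h hh η hη
    have h1 := S.relation η hη (h : G) (hreg h)
    rw [Finset.sum_eq_zero (s := Bm) fun χ hχ => by
      rw [← avg_eq L hP χ (hne1 h hh), hB0 χ hχ h]] at h1
    push_cast at h1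
    linear_combination h1
  -- the trivial character occurs only in the trivial one
  have hzero : (∑ χ ∈ A, m χ (oneIrr H) = 0) ∧ ∑ η ∈ Y, m η (oneIrr H) = 0 := by
    have hm_one : ((m (oneIrr G) (oneIrr H) : ℕ) : ℂ) = 1 := by
      have h1 := hsumH (oneIrr G)
      rw [Finset.sum_congr rfl fun (h : H) _ => show avg P H (oneIrr G) h = 1 by
        rcases eq_or_ne h 1 with rfl | hh
        · exact hone1
        · rw [avg_eq L hP _ (hne1 h hh)]; rfl, Finset.sum_const, Finset.card_univ, hHc, nsmul_eq_mul] at h1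
      exact (mul_left_cancel₀ (Nat.cast_ne_zero.2 (by omega)) h1).symm
    have key : ∀ h : H, (t : ℂ) * (1 + ∑ χ ∈ A, avg P H χ h) + ∑ η ∈ Y, avg P H η h =
        if h = 1 then ((t * q : ℕ) : ℂ) else 0 := by
      intro h
      split_ifs with hh
      · subst hh
        rw [Finset.sum_congr rfl hA1, hY1, Finset.sum_const, nsmul_eq_mul]
        have e : ((A.card * (n + 1) + w + 1 : ℕ) : ℂ) = (q : ℂ) := by rw [haw]
        push_cast at e ⊢
        linear_combination (t : ℂ) * e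
      · rw [Finset.sum_congr rfl fun χ _ => avg_eq L hP χ (hne1 h hh),
          Finset.sum_congr rfl fun η (hη : η ∈ Y) => (avg_eq L hP η (hne1 h hh)).trans
            (S.agree η hη η₀ hη₀ _ (hreg h)), Finset.sum_const, nsmul_eq_mul, ← htdef, ← mul_add,
          hrelH h hh η₀ hη₀, mul_zero]
    have h2 := Finset.sum_congr rfl fun h (_ : h ∈ (Finset.univ : Finset H)) => key h
    rw [Finset.sum_ite_eq' Finset.univ (1 : H), if_pos (Finset.mem_univ _), Finset.sum_add_distrib,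
      ← Finset.mul_sum, Finset.sum_add_distrib, Finset.sum_const, Finset.card_univ, hHc,
      Finset.sum_comm, Finset.sum_congr rfl fun χ _ => hsumH χ,
      Finset.sum_comm, Finset.sum_congr rfl fun χ _ => hsumH χ, ← Finset.mul_sum, ← Finset.mul_sum,
      nsmul_eq_mul, mul_one] at h2
    have h3 : ((q * (t * (∑ χ ∈ A, m χ (oneIrr H)) + ∑ η ∈ Y, m η (oneIrr H)) : ℕ) : ℂ) =
        ((0 : ℕ) : ℂ) := by
      push_cast at h2 ⊢
      linear_combination h2
    rw [Nat.cast_inj, mul_eq_zero, Nat.add_eq_zero_iff, mul_eq_zero] at h3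
    obtain ⟨h4, h5⟩ := h3.resolve_left (by omega)
    exact ⟨h4.resolve_left (by omega), h5⟩
  have hmB : ∀ χ ∈ Bm, m χ (oneIrr H) = 0 := fun χ hχ => by
    have h1 := htot χ
    rw [hB1 χ hχ, ← Nat.cast_sum, Nat.cast_eq_zero, Finset.sum_eq_zero_iff] at h1
    exact h1 _ (Finset.mem_univ _)
  -- the permutation character of the cosets of the normalizer
  have hperm : ∀ g : G, (permChar (nrm P) g : ℂ) =
      1 + ∑ χ ∈ O, (m χ (oneIrr H) : ℂ) * (χ : G → ℂ) g := by
    intro g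
    have hcoef : ∀ χ : IrrCharacter G,
        classInner (indFun (nrm P) (fun _ => 1)) (χ : G → ℂ) = (m χ (oneIrr H) : ℂ) := by
      intro χ
      rw [frobenius_reciprocity (nrm P) _ (isClassFunction_irr χ.2), ← classInner_comm, ← hm1 χ,
        Complex.conj_natCast]
    have h1 := congrFun (eq_sum_irr (indFun_isClassFunction (nrm P) (fun _ => (1 : ℂ)))) g
    rw [indFun_one_eq_permChar] at h1
    rw [h1, Finset.sum_apply, S.hsum]
    simp only [Pi.smul_apply, smul_eq_mul, hcoef]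
    rw [Finset.sum_eq_zero (s := A) fun χ hχ => by
        rw [Finset.sum_eq_zero_iff.1 hzero.1 χ hχ, Nat.cast_zero, zero_mul],
      Finset.sum_eq_zero (s := Bm) fun χ hχ => by rw [hmB χ hχ, Nat.cast_zero, zero_mul],
      Finset.sum_eq_zero (s := Y) fun χ hχ => by
        rw [Finset.sum_eq_zero_iff.1 hzero.2 χ hχ, Nat.cast_zero, zero_mul]]
    have h2 : (m (oneIrr G) (oneIrr H) : ℂ) = 1 := by
      rw [hm1]
      show classInner (fun _ : nrm P => (1 : ℂ)) (fun _ => 1) = 1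
      simp only [classInner, map_one, mul_one, Finset.sum_const, Finset.card_univ, nsmul_eq_mul,
        ← Nat.card_eq_fintype_card]
      exact inv_mul_cancel₀ (Nat.cast_ne_zero.2 Nat.card_pos.ne')
    rw [h2, show (oneIrr G : G → ℂ) g = 1 from rfl]
    ring
  have hmu : ∀ χ ∈ O, ∀ μ : IrrCharacter H, m χ μ = if μ = oneIrr H then u χ else 0 := by
    have hle : ∀ χ ∈ O, ∑ μ : IrrCharacter H, m χ μ = u χ := fun χ hχ => by
      have h1 := htot χ
      rw [hO1 χ hχ, ← Nat.cast_sum, Nat.cast_inj] at h1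
      exact h1
    have h1 := hperm 1
    have hdegree : (permChar (nrm P) 1 : ℂ) = ((n * p + 1 : ℕ) : ℂ) := by
      rw [permChar, Int.cast_natCast, Nat.cast_inj, ← hn, Sylow.card_eq_index_normalizer P,
        Subgroup.index_eq_card]
      exact Nat.card_congr (Equiv.subtypeUnivEquiv fun x => one_smul _ _)
    rw [hdegree, Finset.sum_congr rfl fun χ hχ => by rw [S.degO χ hχ]] at h1
    have h2 : n * p + 1 = 1 + ∑ χ ∈ O, m χ (oneIrr H) * (p * u χ) := by
      have : ((n * p + 1 : ℕ) : ℂ) = ((1 + ∑ χ ∈ O, m χ (oneIrr H) * (p * u χ) : ℕ) : ℂ) := by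
        rw [h1]; push_cast; ring
      exact_mod_cast this
    have h3 : ∑ χ ∈ O, m χ (oneIrr H) * u χ = n := by
      refine Nat.eq_of_mul_eq_mul_left hp.pos ?_
      rw [Finset.mul_sum, mul_comm p n]
      rw [Finset.sum_congr rfl fun χ _ => (show p * (m χ (oneIrr H) * u χ) =
        m χ (oneIrr H) * (p * u χ) by ring)]
      omega
    have h4 : ∀ χ ∈ O, m χ (oneIrr H) * u χ = u χ ^ 2 := by
      refine (Finset.sum_eq_sum_iff_of_le fun χ hχ => ?_).1 (h3.trans hU.symm)
      rw [sq]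
      refine Nat.mul_le_mul_right _ ?_
      rw [← hle χ hχ]
      exact Finset.single_le_sum (fun μ _ => Nat.zero_le _) (Finset.mem_univ _)
    intro χ hχ μ
    have h5 : m χ (oneIrr H) = u χ := by
      have h6 := h4 χ hχ
      rw [sq] at h6
      exact Nat.eq_of_mul_eq_mul_right (S.upos χ hχ) h6
    split_ifs with hμ
    · rw [hμ, h5]
    · have h6 := hle χ hχ
      rw [← Finset.add_sum_erase _ _ (Finset.mem_univ (oneIrr H)), h5, add_eq_left,
        Finset.sum_eq_zero_iff] at h6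
      exact h6 μ (Finset.mem_erase.2 ⟨hμ, Finset.mem_univ _⟩)
  have hOval : ∀ χ ∈ O, ∀ h : H, h ≠ 1 → (χ : G → ℂ) h = (u χ : ℂ) := by
    intro χ hχ h hh
    rw [← avg_eq L hP χ (hne1 h hh), hm χ h, Finset.sum_eq_single (oneIrr H)]
    · rw [hmu χ hχ, if_pos rfl]
      exact mul_one _
    · intro μ _ hμ
      rw [hmu χ hχ, if_neg hμ, Nat.cast_zero, zero_mul]
    · exact fun h' => absurd (Finset.mem_univ _) h'
  have hfix : ∀ h ∈ H, h ≠ 1 → Nat.card {x : G ⧸ nrm P // h • x = x} = n + 1 := by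
    intro h hh hh1
    have h1 := hperm h
    rw [Finset.sum_congr rfl fun χ hχ => by
      rw [hOval χ hχ ⟨h, hh⟩ (fun e => hh1 (congrArg Subtype.val e)), hmu χ hχ, if_pos rfl]] at h1
    have h2 : ((Nat.card {x : G ⧸ nrm P // h • x = x} : ℕ) : ℂ) = ((1 + ∑ χ ∈ O, u χ ^ 2 : ℕ) : ℂ) := by
      have h3 : (permChar (nrm P) h : ℂ) = ((Nat.card {x : G ⧸ nrm P // h • x = x} : ℕ) : ℂ) := by
        rw [permChar, Int.cast_natCast]
        rfl
      rw [← h3, h1]
      push_cast
      congr 1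
      exact Finset.sum_congr rfl fun χ _ => by ring
    rw [Nat.cast_inj, hU] at h2
    omega
  obtain ⟨hNH, hcz⟩ := L.card_normalizer hq hP hfix
  have hG : Nat.card G = p * q * (n * p + 1) := S.card_group hP hn hC
  -- the quotient `w` is `1`
  obtain rfl : w = 1 := by
    have hd : w * t ∣ p * (t * f) := by
      have h1 := Subgroup.card_subgroup_dvd_card (Subgroup.normalizer (H : Set G))
      rw [hNH, hG, hnw, ← htf, show p * q * (t * f) = q * (p * (t * f)) by ring] at h1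
      exact Nat.dvd_of_mul_dvd_mul_left (by omega) h1
    have hd2 : w ∣ p * f := by
      rw [show p * (t * f) = p * f * t by ring] at hd
      exact Nat.dvd_of_mul_dvd_mul_right (by omega) hd
    have hwq : w < q := by omega
    have hcop : Nat.Coprime w p := (hp.coprime_iff_not_dvd.2 fun h => by
      have := Nat.le_of_dvd (by omega) h
      omega).symm
    have hwf : w ∣ f := hcop.dvd_of_dvd_mul_left hd2
    have hwq' : w ∣ q := (Nat.dvd_add_right hwf).1 (hfw ▸ dvd_mul_right w p)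
    have hw1 : w ∣ A.card * (n + 1) + w + 1 := haw.symm ▸ hwq'
    have hw2 : w ∣ A.card * (n + 1) + w := dvd_add (by rw [hnw, mul_left_comm]; exact dvd_mul_right _ _) dvd_rfl
    exact Nat.dvd_one.1 ((Nat.dvd_add_right hw2).1 hw1)
  rw [one_mul] at hfw hnw
  -- the exceptional characters are linear on `H`
  have hYsingle : ∀ η ∈ Y, avg P H η 1 = 1 := by
    have hsame : ∀ η ∈ Y, avg P H η 1 = avg P H η₀ 1 := by
      intro η hη
      have h1 := hsumH η
      have h2 := hsumH η₀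
      rw [Finset.sum_eq_zero_iff.1 hzero.2 η hη, Nat.cast_zero, mul_zero,
        ← Finset.add_sum_erase _ _ (Finset.mem_univ (1 : H))] at h1
      rw [Finset.sum_eq_zero_iff.1 hzero.2 η₀ hη₀, Nat.cast_zero, mul_zero,
        ← Finset.add_sum_erase _ _ (Finset.mem_univ (1 : H))] at h2
      rw [Finset.sum_congr rfl fun h hh => (avg_eq L hP η (hne1 h (Finset.ne_of_mem_erase hh))).trans
        ((S.agree η hη η₀ hη₀ _ (hreg h)).trans (avg_eq L hP η₀ (hne1 h (Finset.ne_of_mem_erase hh))).symm)] at h1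
      linear_combination h1 - h2
    intro η hη
    have h1 := hY1
    rw [Finset.sum_congr rfl hsame, Finset.sum_const, nsmul_eq_mul, mul_one, ← htdef] at h1
    rw [hsame η hη]
    exact mul_left_cancel₀ (Nat.cast_ne_zero.2 (show t ≠ 0 by omega)) (h1.trans (mul_one _).symm)
  obtain ⟨μ₀, hμ₀, hμval⟩ : ∃ μ₀ : IrrCharacter H, μ₀ ≠ oneIrr H ∧
      ∀ h : H, h ≠ 1 → (η₀ : G → ℂ) h = (μ₀ : H → ℂ) h := by
    have h1 := htot η₀
    rw [hYsingle η₀ hη₀, ← Nat.cast_sum, Nat.cast_eq_one] at h1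
    obtain ⟨μ₀, -, hμ₀⟩ := Finset.exists_ne_zero_of_sum_ne_zero (by rw [h1]; exact one_ne_zero)
    have h2 : m η₀ μ₀ = 1 ∧ ∀ μ, μ ≠ μ₀ → m η₀ μ = 0 := by
      rw [← Finset.add_sum_erase _ _ (Finset.mem_univ μ₀)] at h1
      refine ⟨by omega, fun μ hμ => ?_⟩
      exact Finset.sum_eq_zero_iff.1 (show ∑ μ ∈ Finset.univ.erase μ₀, m η₀ μ = 0 by omega) μ
        (Finset.mem_erase.2 ⟨hμ, Finset.mem_univ _⟩)
    refine ⟨μ₀, fun e => hμ₀ (by rw [e]; exact Finset.sum_eq_zero_iff.1 hzero.2 η₀ hη₀), fun h hh => ?_⟩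
    rw [← avg_eq L hP η₀ (hne1 h hh), hm η₀ h, Finset.sum_eq_single μ₀, h2.1, Nat.cast_one, one_mul]
    · exact fun μ _ hμ => by rw [h2.2 μ hμ, Nat.cast_zero, zero_mul]
    · exact fun h' => absurd (Finset.mem_univ _) h'
  obtain ⟨⟨gen, hgen⟩, hgenp⟩ := IsCyclic.exists_generator (α := H)
  set γ : H := ⟨gen, hgen⟩ with hγ
  have hγo : orderOf γ = q := by
    rw [orderOf_eq_card_of_forall_mem_zpowers hgenp, L.card]
  have hγ1 : γ ≠ 1 := fun e => by rw [e, orderOf_one] at hγo; omega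
  obtain ⟨lam, hlam⟩ := exists_hom_of_degree_one (isCharacter_of_irr μ₀.2) (hμ1 μ₀)
  have hmemY : conjIrr η₀ ∈ Y := by
    have hd : (conjIrr η₀ : G → ℂ) 1 = (f : ℂ) := by
      rw [conjIrr_apply, irr_one_conj, S.degY η₀ hη₀]
    have hfp : f + q = p := hfw
    rcases S.sorted (conjIrr η₀) with h | h | h | h | h
    · exfalso
      rw [h, show (oneIrr G : G → ℂ) 1 = 1 from rfl] at hd
      have : (1 : ℕ) = f := by exact_mod_cast hd
      omega
    · exfalso
      rw [S.degA _ h, Nat.cast_inj, ← htf] at hd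
      have : 2 * f ≤ t * f := Nat.mul_le_mul_right f ht
      omega
    · exfalso
      rw [S.degB _ h, Nat.cast_inj] at hd
      omega
    · exact h
    · exfalso
      rw [S.degO _ h, Nat.cast_inj] at hd
      have : p ≤ p * u (conjIrr η₀) := Nat.le_mul_of_pos_right _ (S.upos _ h)
      omega
  have hlamγ : (lam γ : ℂˣ) = -1 := by
    have h1 : conj ((μ₀ : H → ℂ) γ) = (μ₀ : H → ℂ) γ := by
      rw [← hμval γ hγ1, ← conjIrr_apply, S.agree _ hmemY η₀ hη₀ _ (hreg γ)]
    rw [← irr_inv, hlam] at h1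
    have h2 : lam γ⁻¹ = lam γ := Units.ext h1
    rw [map_inv] at h2
    have h3 : lam γ ^ 2 = 1 := by
      rw [sq]
      nth_rewrite 1 [← h2]
      exact inv_mul_cancel _
    have h4 : ((lam γ : ℂˣ) : ℂ) ^ 2 = 1 := by rw [← Units.val_pow_eq_pow_val, h3, Units.val_one]
    rcases sq_eq_one_iff.1 h4 with h5 | h5
    · exfalso
      refine hμ₀ (Subtype.ext (funext fun h => ?_))
      obtain ⟨i, rfl⟩ := Subgroup.mem_zpowers_iff.1 (hgenp h)
      rw [hlam]
      show ((lam (γ ^ i) : ℂˣ) : ℂ) = 1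
      rw [map_zpow, show lam γ = 1 from Units.ext h5, one_zpow, Units.val_one]
    · exact Units.ext (by rw [h5, Units.val_neg, Units.val_one])
  obtain ⟨s, hqs⟩ : ∃ s, q = 2 * s := by
    have h1 : (lam γ) ^ q = 1 := by rw [← hγo, ← map_pow, pow_orderOf_eq_one, map_one]
    rw [hlamγ] at h1
    rcases Nat.even_or_odd q with h | h
    · exact ⟨q / 2, by obtain ⟨k, hk⟩ := h; omega⟩
    · exfalso
      rw [h.neg_one_pow] at h1
      have := congrArg (fun x : ℂˣ => (x : ℂ)) h1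
      norm_num at this
  rcases (by omega : n = 1 ∨ 2 ≤ n) with rfl | hn2'
  · refine Or.inl (psl_of_one hP (by rw [hn, one_mul]) hC hcore ?_ ⟨s, by omega⟩)
    have : t = 2 := by omega
    rw [this] at hqt
    omega
  right
  have ht3 : 3 ≤ t := by omega
  set z : H := γ ^ s with hz
  have hz2 : z * z = 1 := by rw [hz, ← pow_add, ← two_mul, ← hqs, ← hγo, pow_orderOf_eq_one]
  have hz1 : z ≠ 1 := fun e => by
    have := orderOf_dvd_of_pow_eq_one e
    rw [hγo] at this
    have := Nat.le_of_dvd (by omega) this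
    omega
  have huniq : ∀ h : H, h * h = 1 → h = 1 ∨ h = z := by
    intro h hh
    obtain ⟨i, hi⟩ : ∃ i : ℕ, γ ^ i = h := Submonoid.mem_powers_iff _ _ |>.1
      ((isOfFinOrder_of_finite γ).mem_powers_iff_mem_zpowers.2 (hgenp h))
    subst hi
    rw [← pow_add, ← orderOf_dvd_iff_pow_eq_one, hγo, hqs, ← two_mul] at hh
    obtain ⟨c, hc⟩ := Nat.dvd_of_mul_dvd_mul_left two_pos hh
    rcases Nat.even_or_odd c with ⟨d, hd⟩ | ⟨d, hd⟩
    · left
      rw [hc, hd, show s * (d + d) = q * d by rw [hqs]; ring, pow_mul, ← hγo, pow_orderOf_eq_one, one_pow]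
    · right
      rw [hc, hd, show s * (2 * d + 1) = q * d + s by rw [hqs]; ring, pow_add, pow_mul, ← hγo,
        pow_orderOf_eq_one, one_pow, one_mul, ← hz]
  have hcenz : ∀ g ∈ Subgroup.normalizer (H : Set G), g * (z : G) = (z : G) * g := by
    intro g hg
    have h1 : g * (z : G) * g⁻¹ ∈ H := (Subgroup.mem_normalizer_iff.1 hg _).1 z.2
    rcases huniq ⟨_, h1⟩ (Subtype.ext (by
      show g * (z : G) * g⁻¹ * (g * (z : G) * g⁻¹) = 1
      rw [show g * (z : G) * g⁻¹ * (g * (z : G) * g⁻¹) = g * ((z : G) * z) * g⁻¹ by group,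
        ← Subgroup.coe_mul, hz2, Subgroup.coe_one]
      group)) with h2 | h2
    · exact absurd (conj_eq_one_iff.1 (congrArg Subtype.val h2)) (hne1 z hz1)
    · rw [← mul_inv_eq_iff_eq_mul]
      exact congrArg Subtype.val h2
  have hCz : Subgroup.centralizer ({(z : G)} : Set G) = Subgroup.normalizer (H : Set G) :=
    hcz z z.2 (hne1 z hz1) hcenz
  have hCcard : Nat.card (Subgroup.centralizer ({(z : G)} : Set G)) = q * t := by
    rw [hCz, hNH, hnw]
  -- integral values at `z`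
  have hsign : ∀ μ : IrrCharacter H, ∃ e : ℤ, (e = 1 ∨ e = -1) ∧ (μ : H → ℂ) z = e := by
    intro μ
    obtain ⟨l, hl⟩ := exists_hom_of_degree_one (isCharacter_of_irr μ.2) (hμ1 μ)
    have h4 : ((l z : ℂˣ) : ℂ) ^ 2 = 1 := by
      rw [← Units.val_pow_eq_pow_val, ← map_pow, sq, hz2, map_one, Units.val_one]
    rcases sq_eq_one_iff.1 h4 with h5 | h5
    · exact ⟨1, Or.inl rfl, by rw [hl, Int.cast_one]; exact h5⟩
    · exact ⟨-1, Or.inr rfl, by rw [hl, Int.cast_neg, Int.cast_one]; exact h5⟩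
  choose e he hev using hsign
  let c : IrrCharacter G → ℤ := fun χ => ∑ μ : IrrCharacter H, (m χ μ : ℤ) * e μ
  have hval : ∀ χ : IrrCharacter G, (χ : G → ℂ) z = (c χ : ℂ) := fun χ => by
    rw [← avg_eq L hP χ (hne1 z hz1), hm χ z]
    push_cast [c]
    exact Finset.sum_congr rfl fun μ _ => by rw [hev]
  have hcA : ∀ χ ∈ A, c χ ^ 2 ≤ (t : ℤ) ^ 2 := fun χ hχ => by
    have h1 : |c χ| ≤ (t : ℤ) := by
      refine (Finset.abs_sum_le_sum_abs _ _).trans (le_of_eq ?_)
      have h2 := htot χ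
      rw [hA1 χ hχ, hnw, ← Nat.cast_sum, Nat.cast_inj] at h2
      rw [Finset.sum_congr rfl fun μ _ => show |(m χ μ : ℤ) * e μ| = (m χ μ : ℤ) by
        rcases he μ with h | h <;> rw [h] <;> simp, ← Nat.cast_sum, h2]
    rw [← sq_abs (c χ)]
    exact pow_le_pow_left₀ (abs_nonneg _) h1 2
  have hsz : ∀ η ∈ Y, (η : G → ℂ) z = ((-1 : ℤ) ^ s : ℤ) := fun η hη => by
    rw [S.agree η hη η₀ hη₀ _ (hreg z), hμval z hz1, hlam]
    show ((lam z : ℂˣ) : ℂ) = _
    rw [hz, map_pow, hlamγ, Units.val_pow_eq_pow_val, Units.val_neg, Units.val_one]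
    push_cast
    ring
  have hrelz : 1 + ∑ χ ∈ A, c χ + (-1 : ℤ) ^ s = 0 := by
    have h1 := hrelH z hz1 η₀ hη₀
    rw [Finset.sum_congr rfl fun χ _ => hval χ, hsz η₀ hη₀] at h1
    exact_mod_cast h1
  have hBz : ∀ χ ∈ Bm, (χ : G → ℂ) z = 0 := fun χ hχ => by
    rw [← avg_eq L hP χ (hne1 z hz1), hB0 χ hχ z]
  have hcol : ∑ χ ∈ A, c χ ^ 2 = (A.card : ℤ) * (t : ℤ) ^ 2 := by
    have h1 := sum_irr_mul_conj (z : G) (z : G)
    rw [if_pos (IsConj.refl _), hCcard, S.hsum] at h1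
    rw [Finset.sum_congr rfl fun χ (hχ : χ ∈ A) => show (χ : G → ℂ) z * conj ((χ : G → ℂ) z) =
        ((c χ ^ 2 : ℤ) : ℂ) by rw [hval, map_intCast]; push_cast; ring,
      Finset.sum_congr rfl fun χ (hχ : χ ∈ Y) => show (χ : G → ℂ) z * conj ((χ : G → ℂ) z) = (1 : ℂ) by
        rw [hsz χ hχ, map_intCast, ← Int.cast_mul, ← mul_pow, show (-1 : ℤ) * -1 = 1 from rfl, one_pow,
          Int.cast_one],
      Finset.sum_congr rfl fun χ (hχ : χ ∈ O) => show (χ : G → ℂ) z * conj ((χ : G → ℂ) z) =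
        ((u χ ^ 2 : ℕ) : ℂ) by rw [hOval χ hχ z hz1, Complex.conj_natCast]; push_cast; ring,
      Finset.sum_eq_zero (s := Bm) fun χ hχ => by rw [hBz χ hχ, zero_mul],
      show (oneIrr G : G → ℂ) z = 1 from rfl, map_one, Finset.sum_const, nsmul_eq_mul, mul_one, ← htdef,
      ← Nat.cast_sum, hU, ← Int.cast_sum] at h1
    have h2 : ((1 + ∑ χ ∈ A, c χ ^ 2 + t + n : ℤ) : ℂ) = ((q * t : ℤ) : ℂ) := by
      push_cast at h1 ⊢
      linear_combination h1
    have h3 : 1 + ∑ χ ∈ A, c χ ^ 2 + (t : ℤ) + n = q * t := by exact_mod_cast h2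
    have haw' : ((A.card * (n + 1) + 1 + 1 : ℕ) : ℤ) = (q : ℤ) := by rw [haw]
    have hnw' : ((n + 1 : ℕ) : ℤ) = (t : ℤ) := by rw [hnw]
    push_cast at haw' hnw'
    linear_combination h3 - (1 + (A.card : ℤ) * (t : ℤ)) * hnw' * 0 - hnw' + (t : ℤ) * (A.card : ℤ) * hnw'
      - (t : ℤ) * haw'
  have hcsq : ∀ χ ∈ A, c χ ^ 2 = (t : ℤ) ^ 2 :=
    (Finset.sum_eq_sum_iff_of_le hcA).1 (by rw [hcol, Finset.sum_const, nsmul_eq_mul])
  have hs1 : (-1 : ℤ) ^ s = -1 := by
    rcases neg_one_pow_eq_or ℤ s with h | h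
    · exfalso
      rw [h] at hrelz
      have hd : (t : ℤ) ∣ ∑ χ ∈ A, c χ := Finset.dvd_sum fun χ hχ => by
        rcases sq_eq_sq_iff_eq_or_eq_neg.1 (hcsq χ hχ) with h5 | h5 <;> rw [h5]
        exact (dvd_refl _).neg_right
      rw [show ∑ χ ∈ A, c χ = -2 by linarith, dvd_neg] at hd
      have := Int.le_of_dvd two_pos hd
      omega
    · exact h
  rw [hs1] at hrelz hsz
  -- involutions with product `z`
  have hcount : (pairCount (z : G) (z : G) (z : G) : ℂ) = ((((t - 1) * q : ℕ)) : ℂ) := by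
    have hidx : ((Subgroup.centralizer ({(z : G)} : Set G)).index : ℂ) = ((p * f : ℕ) : ℂ) := by
      rw [Nat.cast_inj]
      have h1 := (Subgroup.centralizer ({(z : G)} : Set G)).card_mul_index
      rw [hCcard, hG, ← htf, show p * q * (t * f) = q * t * (p * f) by ring] at h1
      exact Nat.eq_of_mul_eq_mul_left (Nat.mul_pos (by omega) (by omega)) h1
    have h1 := pairCount_mul (z : G) (z : G) (z : G)
    rw [hCcard, S.hsum] at h1
    simp only [clv, centralChar, hidx] at h1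
    rw [Finset.sum_congr rfl fun χ (hχ : χ ∈ A) => show
        ((p * f : ℕ) : ℂ) * (χ : G → ℂ) z / (χ : G → ℂ) 1 * ((χ : G → ℂ) z * conj ((χ : G → ℂ) z)) =
          ((p * f : ℕ) : ℂ) * (t : ℂ) ^ 2 / ((n * p + 1 : ℕ) : ℂ) * (c χ : ℂ) by
        rw [hval, map_intCast, S.degA χ hχ, ← Int.cast_mul, ← sq, hcsq χ hχ]; push_cast; ring,
      Finset.sum_congr rfl fun χ (hχ : χ ∈ Y) => show
        ((p * f : ℕ) : ℂ) * (χ : G → ℂ) z / (χ : G → ℂ) 1 * ((χ : G → ℂ) z * conj ((χ : G → ℂ) z)) =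
          -(p : ℂ) by
        have hf0 : (f : ℂ) ≠ 0 := fun h => irr_one_ne_zero χ (by rw [S.degY χ hχ, h])
        rw [hsz χ hχ, map_intCast, S.degY χ hχ]; push_cast; field_simp,
      Finset.sum_congr rfl fun χ (hχ : χ ∈ O) => show
        ((p * f : ℕ) : ℂ) * (χ : G → ℂ) z / (χ : G → ℂ) 1 * ((χ : G → ℂ) z * conj ((χ : G → ℂ) z)) =
          (f : ℂ) * ((u χ ^ 2 : ℕ) : ℂ) by
        have hu : (u χ : ℂ) ≠ 0 := Nat.cast_ne_zero.2 (by have := S.upos χ hχ; omega)
        rw [hOval χ hχ z hz1, Complex.conj_natCast, S.degO χ hχ]; push_cast; field_simp,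
      Finset.sum_eq_zero (s := Bm) fun χ hχ => by rw [hBz χ hχ, zero_mul, mul_zero],
      show (oneIrr G : G → ℂ) z = 1 from rfl, show (oneIrr G : G → ℂ) 1 = 1 from rfl, map_one,
      ← Finset.mul_sum, ← Int.cast_sum, show ∑ χ ∈ A, c χ = 0 by linarith,
      Finset.sum_const, ← htdef, ← Finset.mul_sum, ← Nat.cast_sum, hU] at h1
    have e1 : ((f + q : ℕ) : ℂ) = (p : ℂ) := by rw [hfw]
    have e2 : ((t * q + 1 : ℕ) : ℂ) = (p : ℂ) := by rw [hqt]
    have e3 : ((n + 1 : ℕ) : ℂ) = (t : ℂ) := by rw [hnw]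
    push_cast at h1 e1 e2 e3 ⊢
    rw [Nat.cast_sub (show 1 ≤ t by omega)]
    refine mul_right_cancel₀ (mul_ne_zero (Nat.cast_ne_zero.2 (show q ≠ 0 by omega))
      (Nat.cast_ne_zero.2 (show t ≠ 0 by omega))) ?_
    rw [nsmul_eq_mul] at h1
    rw [h1]
    push_cast
    linear_combination ((p : ℂ) + (n : ℂ)) * e1 + ((p : ℂ) - (q : ℂ)) * e3 -
      ((p : ℂ) + (t : ℂ) * (q : ℂ) - (q : ℂ)) * e2
  have hpairs := Nat.cast_injective hcount
  set C := Subgroup.centralizer ({(z : G)} : Set G) with hC'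
  have hHC : H ≤ C := hCz ▸ Subgroup.le_normalizer
  have hzz : (z : G) * z = 1 := by rw [← Subgroup.coe_mul, hz2, Subgroup.coe_one]
  have hsq_of_conj : ∀ a : G, IsConj (z : G) a → a * a = 1 := fun a ha => by
    obtain ⟨c, rfl⟩ := isConj_iff.1 ha
    rw [show c * (z : G) * c⁻¹ * (c * (z : G) * c⁻¹) = c * ((z : G) * z) * c⁻¹ by group, hzz]
    group
  have hinv : ∀ a ∈ C, a ∉ H → a * a = 1 ∧ IsConj (z : G) a := by
    have hset : {a : G | IsConj (z : G) a ∧ IsConj (z : G) (a⁻¹ * z)} = (C : Set G) \ (H : Set G) := by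
      refine Set.eq_of_subset_of_ncard_le ?_ ?_
      · rintro a ⟨ha, ha'⟩
        have h1 := hsq_of_conj a ha
        have h2 := hsq_of_conj _ ha'
        have h3 : a⁻¹ = a := inv_eq_of_mul_eq_one_right h1
        rw [h3] at h2 ha'
        refine ⟨?_, fun haH => ?_⟩
        · rw [SetLike.mem_coe, hC', Subgroup.mem_centralizer_singleton_iff]
          calc a * z = (a * z)⁻¹ := (inv_eq_of_mul_eq_one_right h2).symm
            _ = (z : G)⁻¹ * a⁻¹ := mul_inv_rev a z
            _ = z * a := by rw [inv_eq_of_mul_eq_one_right hzz, h3]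
        · have haz : a ≠ 1 := fun e => hne1 z hz1 (isConj_one_left.1 (e ▸ ha))
          rcases huniq ⟨a, haH⟩ (Subtype.ext h1) with h4 | h4
          · exact haz (congrArg Subtype.val h4)
          · rw [show a = (z : G) from congrArg Subtype.val h4, hzz] at ha'
            exact hne1 z hz1 (isConj_one_left.1 ha')
      · rw [Set.ncard_sdiff (show (H : Set G) ⊆ (C : Set G) from hHC) (Set.toFinite _),
          ← Nat.card_coe_set_eq, ← Nat.card_coe_set_eq, ← Nat.card_coe_set_eq]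
        refine le_of_eq ?_
        show Nat.card C - Nat.card H = pairCount (z : G) (z : G) (z : G)
        rw [hpairs, hCcard, L.card, Nat.sub_mul, one_mul, mul_comm]
    intro a ha haH
    have : a ∈ {a : G | IsConj (z : G) a ∧ IsConj (z : G) (a⁻¹ * z)} := hset ▸ ⟨ha, haH⟩
    exact ⟨hsq_of_conj a this.1, this.1⟩
  have hinverts : ∀ a ∈ C, a ∉ H → ∀ h ∈ H, a * h * a = h⁻¹ := by
    intro a ha haH h hh
    have h1 := (hinv _ (mul_mem ha (hHC hh)) fun h2 => haH (by
      have := mul_mem h2 (inv_mem hh)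
      rwa [mul_inv_cancel_right] at this)).1
    calc a * h * a = (a * h * (a * h)) * h⁻¹ := by group
      _ = h⁻¹ := by rw [h1, one_mul]
  have hq2 : q = 2 := by
    have hlt : Nat.card H < Nat.card C := by
      rw [hCcard, L.card]
      calc q = q * 1 := (mul_one q).symm
        _ < q * t := Nat.mul_lt_mul_of_pos_left (by omega) (by omega)
    obtain ⟨b, hb, hbH⟩ : ∃ b ∈ C, b ∉ H := by
      by_contra hno
      push Not at hno
      exact absurd (Nat.card_le_card_of_injective (Subgroup.inclusion (show C ≤ H from hno))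
        (Subgroup.inclusion_injective _)) (by omega)
    obtain ⟨a, ha, haH, habH⟩ : ∃ a ∈ C, a ∉ H ∧ a * b ∉ H := by
      by_contra hno
      push Not at hno
      have hsub : (C : Set G) ⊆ (H : Set G) ∪ (fun h => h * b⁻¹) '' (H : Set G) := fun a ha => by
        by_cases haH : a ∈ H
        · exact Or.inl haH
        · exact Or.inr ⟨a * b, hno a ha haH, mul_inv_cancel_right a b⟩
      have h1 := (Set.ncard_le_ncard hsub (Set.toFinite _)).trans
        ((Set.ncard_union_le _ _).trans (Nat.add_le_add_left (Set.ncard_image_le (Set.toFinite _)) _))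
      rw [← Nat.card_coe_set_eq, ← Nat.card_coe_set_eq] at h1
      have h2 : q * 3 ≤ q * t := Nat.mul_le_mul_left q ht3
      have h1' : Nat.card C ≤ Nat.card H + Nat.card H := h1
      rw [hCcard, L.card] at h1'
      omega
    have hb2 := (hinv b hb hbH).1
    have ha2 := (hinv a ha haH).1
    have hgen' : gen⁻¹ = gen := by
      have h1 := hinverts (a * b) (mul_mem ha hb) habH gen hgen
      have h2 := hinverts b hb hbH gen hgen
      have h3 := hinverts a ha haH gen⁻¹ (inv_mem hgen)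
      rw [inv_inv] at h3
      have h4 : a * b * (a * b) = 1 := (hinv _ (mul_mem ha hb) habH).1
      have hab : b * a = a * b := by
        calc b * a = (a * a) * (b * a) * (b * b) := by rw [ha2, hb2]; group
          _ = a * (a * b * (a * b)) * b := by group
          _ = a * b := by rw [h4, mul_one]
      calc gen⁻¹ = a * b * gen * (a * b) := h1.symm
        _ = a * b * gen * (b * a) := by rw [hab]
        _ = a * (b * gen * b) * a := by group
        _ = gen := by rw [h2, h3]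
    have h5 : γ ^ 2 = 1 := Subtype.ext (by
      show gen ^ 2 = 1
      rw [sq]
      nth_rewrite 1 [← hgen']
      exact inv_mul_cancel gen)
    have := Nat.le_of_dvd two_pos (orderOf_dvd_of_pow_eq_one h5)
    rw [hγo] at this
    omega
  have hCp : Nat.card C = p - 1 := by
    rw [hCcard, hq2]
    rw [hq2] at hqt
    omega
  refine ⟨(z : G), orderOf_eq_prime (by rw [sq, hzz]) (hne1 z hz1), hCp, fun y hy hy1 => ?_, ?_⟩
  · by_cases hyH : y ∈ H
    · have hHz : y = (z : G) := by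
        have hcard : Nat.card H = 2 := L.card.trans hq2
        have hy2 : (⟨y, hyH⟩ : H) * ⟨y, hyH⟩ = 1 := by
          have := pow_card_eq_one' (G := H) (x := ⟨y, hyH⟩)
          rwa [hcard, sq] at this
        rcases huniq ⟨y, hyH⟩ hy2 with h | h
        · exact absurd (congrArg Subtype.val h) hy1
        · exact congrArg Subtype.val h
      exact ⟨hHz ▸ hzz, hHz ▸ IsConj.refl _⟩
    · exact hinv y hy hyH
  · rw [hG, ← htf, hq2]
    rw [hq2] at hfw hqt
    rw [show p - 2 = f by omega, show p - 1 = 2 * t by omega]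
    ring

end CfsgLib.SmallSylow
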